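import Cfsg.Agent.H53.Exotic.Core
import Cfsg.Agent.H47.TwoSinger.Field
import Cfsg.Agent.Arith.LargePrimDiv

/-!
A group with a surjective cocycle to `GF(2) ^ n` over a faithful linear representation, whose kernel
normalises a cyclic group transitive on nonzero vectors and has odd order, has `n = 3`.
-/

set_option autoImplicit false
set_option linter.style.haveILetI false

namespace Cfsg.Agent.H53.Exotic

open MulAction Subgroup

universe u

/-- An automorphism normalising a Singer cycle acts on it as a power of the Frobenius map. -/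
theorem singer_galois {V : Type*} [AddCommGroup V] [Finite V] {n : ℕ} (hn : 1 ≤ n)
    (hcard : Nat.card V = 2 ^ n) (h2 : ∀ v : V, v + v = 0) (A B : AddMonoid.End V) (hA : Function.Injective A)
    (hB : Function.Injective B)
    (htr : ∀ v w : V, v ≠ 0 → w ≠ 0 → ∃ m : ℕ, (A ^ m) v = w) {k : ℕ}
    (hAB : ∀ x, B (A x) = (A ^ k) (B x)) : ∃ i : ℕ, ∀ x, (A ^ k) x = (A ^ 2 ^ i) x := by
  let ρ : MulAut (Multiplicative V) :=
    AddEquiv.toMultiplicative (AddEquiv.ofBijective A ⟨hA, Finite.injective_iff_surjective.mp hA⟩)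
  have hρ : ∀ (m : ℕ) (x : Multiplicative V), (ρ ^ m) x = Multiplicative.ofAdd ((A ^ m) x.toAdd) := by
    intro m
    induction m with
    | zero => intro x; rfl
    | succ m ih =>
      intro x
      rw [pow_succ', pow_succ']
      show ρ ((ρ ^ m) x) = Multiplicative.ofAdd (A ((A ^ m) x.toAdd))
      rw [ih]
      rfl
  obtain ⟨ω, j, hω, hadd, hinj, hmem, heq⟩ := H47.TwoSinger.exists_coord (⊤ : Subgroup (Multiplicative V))
    hn (by rw [Subgroup.card_top, Nat.card_congr Multiplicative.toAdd, hcard])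
    (fun x _ => Multiplicative.toAdd.injective (h2 x.toAdd)) ρ (fun x _ => mem_top _)
    (fun x y _ _ hx hy => by
      obtain ⟨m, hm⟩ := htr x.toAdd y.toAdd (fun h => hx (Multiplicative.toAdd.injective h))
        (fun h => hy (Multiplicative.toAdd.injective h))
      exact ⟨m, by rw [hρ, hm]; rfl⟩)
  let e : GaloisField 2 n ≃+ V :=
    { Equiv.ofBijective (fun x => (j x).toAdd) ⟨Multiplicative.toAdd.injective.comp hinj, fun v =>
        (hmem (Multiplicative.ofAdd v)).mp (mem_top _) |>.imp fun x hx => by simp [hx]⟩ with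
      map_add' := fun x y => congrArg Multiplicative.toAdd (hadd x y) }
  have he : ∀ x, A (e x) = e (ω * x) := fun x => congrArg Multiplicative.toAdd (heq x)
  have hem : ∀ (m : ℕ) x, (A ^ m) (e x) = e (ω ^ m * x) := by
    intro m
    induction m with
    | zero => intro x; rw [pow_zero, pow_zero, one_mul]; rfl
    | succ m ih =>
      intro x
      rw [pow_succ', pow_succ']
      show A ((A ^ m) (e x)) = _
      rw [ih, he, mul_assoc]
  let f : GaloisField 2 n → GaloisField 2 n := fun x => e.symm (B (e x))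
  have hf : ∀ x, f (ω * x) = ω ^ k * f x := fun x => e.injective (by
    simp only [f, AddEquiv.apply_symm_apply]
    rw [← he, hAB, ← hem, AddEquiv.apply_symm_apply])
  have hfm : ∀ (m : ℕ) x, f (ω ^ m * x) = (ω ^ k) ^ m * f x := by
    intro m
    induction m with
    | zero => simp
    | succ m ih => intro x; rw [pow_succ', mul_assoc, hf, ih, pow_succ' (ω ^ k), mul_assoc]
  have hf0 : f 0 = 0 := by simp [f]
  have hf1 : f 1 ≠ 0 := by simp [f, map_eq_zero_iff B hB]
  let g : GaloisField 2 n →+* GaloisField 2 n :=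
    { toFun := fun x => f x / f 1
      map_one' := div_self hf1
      map_zero' := by simp [hf0]
      map_add' := fun x y => by simp [f, add_div]
      map_mul' := fun x y => by
        rcases eq_or_ne x 0 with rfl | hx
        · simp [hf0]
        obtain ⟨m, rfl⟩ := hω x hx
        have h1 : f (ω ^ m) = (ω ^ k) ^ m * f 1 := by simpa using hfm m 1
        rw [hfm, h1]
        field_simp }
  let ga : GaloisField 2 n →ₐ[ZMod 2] GaloisField 2 n :=
    { g with
      commutes' := fun c => by
        exact RingHom.congr_fun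
          (Subsingleton.elim (g.comp (algebraMap (ZMod 2) (GaloisField 2 n))) (algebraMap _ _)) c }
  obtain ⟨i, hi⟩ := (FiniteField.bijective_frobeniusAlgHom_pow (ZMod 2) (GaloisField 2 n)).2 ga
  refine ⟨i, fun v => ?_⟩
  obtain ⟨x, rfl⟩ := e.surjective v
  have hk : ω ^ k = ω ^ 2 ^ (i : ℕ) := by
    have h := DFunLike.congr_fun hi ω
    simp only [AlgHom.coe_pow, FiniteField.coe_frobeniusAlgHom, pow_iterate, ZMod.card] at h
    rw [h]
    show ω ^ k = f ω / f 1
    rw [← mul_one ω, hf, mul_div_assoc, div_self hf1, mul_one, mul_one]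
  rw [hem, hem, hk]

theorem pow_bound : ∀ n, 8 ≤ n → 6 * (n * n) + 5 ≤ 2 * 2 ^ n := by
  intro n hn
  induction n, hn using Nat.le_induction with
  | base => norm_num
  | succ n hn ih =>
    rw [pow_succ]
    nlinarith

/-- An abelian normal subgroup of the group is trivial. -/
theorem no_abelian_normal {H : Type*} [Group H] {V : Type*} [AddCommGroup V] [Finite V] {n : ℕ}
    (hn : 1 ≤ n) (hcard : Nat.card V = 2 ^ n) (L : H →* AddMonoid.End V) (hL : Function.Injective L)
    [MulAction H V] {U R : Subgroup H} (S : Setting H (0 : V) U R)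
    (hact : ∀ g ∈ U, ∀ x : V, g • x = L g x)
    {Y : Subgroup H} (hY : Y.Normal) (hab : ∀ x ∈ Y, ∀ y ∈ Y, x * y = y * x) : Y = ⊥ := by
  by_contra hne
  have hbij : Function.Bijective fun y : ↥Y => (y : H) • (0 : V) := by
    refine ⟨fun y z h => ?_, fun x => ?_⟩
    · exact Subtype.ext (inv_mul_eq_one.mp (S.eq_one_of_abelian hY hab
        (Y.mul_mem (Y.inv_mem y.2) z.2) (by rw [mul_smul, ← show (y : H) • (0 : V) = (z : H) • 0 from h,
          inv_smul_smul])))
    · obtain ⟨q, hq, hqx⟩ := S.normal_trans hY hne x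
      exact ⟨⟨q, hq⟩, hqx⟩
  have hYcard : Nat.card ↥Y = 2 ^ n := (Nat.card_congr (Equiv.ofBijective _ hbij)).trans hcard
  haveI : Fact (Nat.Prime 2) := ⟨Nat.prime_two⟩
  let act : MulAction ↥Y V :=
    { smul := fun y x => L y x
      one_smul := fun x => show L (1 : H) x = x by rw [map_one]; rfl
      mul_smul := fun y z x => show L ((y : H) * z) x = L y (L z x) by rw [map_mul]; rfl }
  obtain ⟨x, hx, hx0⟩ := @IsPGroup.exists_fixed_point_of_prime_dvd_card_of_fixed_point 2 ↥Y _
    (IsPGroup.of_card hYcard) _ V act _ (by rw [hcard]; exact dvd_pow_self 2 (by omega)) (0 : V)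
    (fun y => map_zero (L y))
  apply hne
  rw [Subgroup.eq_bot_iff_forall]
  intro y hy
  refine hL (AddMonoidHom.ext fun z => ?_)
  rw [map_one]
  show L y z = z
  rcases eq_or_ne z 0 with rfl | hz
  · exact map_zero _
  obtain ⟨v, hv, rfl⟩ := S.U_trans x z (Ne.symm hx0) hz
  rw [hact v hv]
  have h1 : L ((v⁻¹ * y * v⁻¹⁻¹ : H)) x = x := hx ⟨_, hY.conj_mem y hy v⁻¹⟩
  calc L y (L v x) = L (v * (v⁻¹ * y * v⁻¹⁻¹)) x := by
        rw [show v * (v⁻¹ * y * v⁻¹⁻¹) = y * v by group, map_mul]; rfl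
    _ = L v x := by rw [map_mul]; exact congrArg (L v) h1

theorem eq_three {H : Type*} [Group H] [Finite H] {V : Type*} [AddCommGroup V] [Finite V]
    {n : ℕ} (hn : 2 ≤ n) (hcard : Nat.card V = 2 ^ n) (h2 : ∀ v : V, v + v = 0)
    (L : H →* AddMonoid.End V) (hL : Function.Injective L)
    (b : H → V) (hb : ∀ g h, b (g * h) = b g + L g (b h)) (hsurj : Function.Surjective b)
    (u : H) (hu0 : b u = 0) (htr : ∀ v w : V, v ≠ 0 → w ≠ 0 → ∃ k : ℕ, L (u ^ k) v = w)
    (hnorm : ∀ r, b r = 0 → ∃ k : ℕ, r * u * r⁻¹ = u ^ k)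
    (hodd : ∀ r, b r = 0 → Odd (orderOf r)) : n = 3 := by
  classical
  by_contra hn3
  haveI : Fintype V := Fintype.ofFinite V
  haveI : Fact (Nat.Prime 2) := ⟨Nat.prime_two⟩
  have hinjL : ∀ g, Function.Injective (L g) := fun g x y h => by
    have e : ∀ z, L g⁻¹ (L g z) = z := fun z => by
      show (L g⁻¹ * L g) z = z
      rw [← map_mul, inv_mul_cancel, map_one]
      rfl
    rw [← e x, h, e]
  have hb1 : b 1 = 0 := by simpa using hb 1 1
  let act : MulAction H V :=
    { smul := fun g x => b g + L g x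
      one_smul := fun x => show b 1 + L 1 x = x by rw [hb1, map_one, zero_add]; rfl
      mul_smul := fun g h x => show b (g * h) + L (g * h) x = b g + L g (b h + L h x) by
        rw [hb, map_add, map_mul, ← add_assoc]; rfl }
  have hstab : ∀ g : H, g ∈ stabilizer H (0 : V) ↔ b g = 0 := fun g => by
    show b g + L g 0 = 0 ↔ _
    rw [map_zero, add_zero]
  have hlin : ∀ g : H, b g = 0 → ∀ x, g • x = L g x := fun g hg x => by
    show b g + L g x = _
    rw [hg, zero_add]
  set U : Subgroup H := zpowers u with hUdef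
  have hUle : U ≤ stabilizer H (0 : V) := zpowers_le.mpr ((hstab u).mpr hu0)
  have hUb : ∀ g ∈ U, b g = 0 := fun g hg => (hstab g).mp (hUle hg)
  have hUpow : ∀ g, g ∈ U ↔ ∃ m : ℕ, u ^ m = g := fun g => by
    rw [hUdef, ← mem_powers_iff_mem_zpowers, Submonoid.mem_powers_iff]
  have hUcomm : ∀ g ∈ U, ∀ h ∈ U, g * h = h * g := by
    intro g hg h hh
    obtain ⟨l, rfl⟩ := (hUpow g).mp hg
    obtain ⟨m, rfl⟩ := (hUpow h).mp hh
    rw [← pow_add, ← pow_add, add_comm]
  have hUtrans : ∀ x y : V, x ≠ 0 → y ≠ 0 → ∃ g ∈ U, g • x = y := fun x y hx hy => by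
    obtain ⟨m, hm⟩ := htr x y hx hy
    exact ⟨u ^ m, pow_mem (mem_zpowers u) m, (hlin _ (hUb _ (pow_mem (mem_zpowers u) m)) x).trans hm⟩
  -- an element centralising `U` and fixing a nonzero vector is trivial
  have hfix : ∀ g : H, b g = 0 → g * u = u * g → ∀ x : V, x ≠ 0 → L g x = x → g = 1 := by
    intro g hg hgu x hx hgx
    refine hL (AddMonoidHom.ext fun y => ?_)
    rw [map_one]
    show L g y = y
    rcases eq_or_ne y 0 with rfl | hy
    · exact map_zero _
    obtain ⟨m, rfl⟩ := htr x y hx hy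
    have e : L (g * u ^ m) x = L (u ^ m * g) x := by
      rw [((show Commute g u from hgu).pow_right m).eq]
    rw [map_mul, map_mul] at e
    exact e.trans (congrArg (L (u ^ m)) hgx)
  have hUcomm' : ∀ g ∈ U, g * u = u * g := fun g hg => hUcomm g hg u (mem_zpowers u)
  have hUfree : ∀ g ∈ U, ∀ x : V, x ≠ 0 → g • x = x → g = 1 := fun g hg x hx h =>
    hfix g (hUb g hg) (hUcomm' g hg) x hx ((hlin g (hUb g hg) x).symm.trans h)
  have hcentU : ∀ g : H, b g = 0 → g * u = u * g → g ∈ U := by
    intro g hg hgu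
    haveI : Nontrivial V := Finite.one_lt_card_iff_nontrivial.mp (hcard ▸ Nat.one_lt_two_pow (by omega))
    obtain ⟨x, hx⟩ := exists_ne (0 : V)
    have hgx : L g x ≠ 0 := fun h => hx ((map_eq_zero_iff (L g) (hinjL g)).mp h)
    obtain ⟨v, hv, hvx⟩ := hUtrans (L g x) x hgx hx
    rw [hlin v (hUb v hv)] at hvx
    have hvg : v * g = 1 := hfix (v * g) (by rw [hb, hUb v hv, hg, map_zero, add_zero])
      (by rw [mul_assoc, hgu, ← mul_assoc, hUcomm' v hv, mul_assoc]) x hx (by rw [map_mul]; exact hvx)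
    rw [eq_inv_of_mul_eq_one_right hvg]
    exact U.inv_mem hv
  set M := 2 ^ n - 1 with hM
  have hUcard : Nat.card ↥U = M := by
    haveI : Nontrivial V := Finite.one_lt_card_iff_nontrivial.mp (hcard ▸ Nat.one_lt_two_pow (by omega))
    obtain ⟨x, hx⟩ := exists_ne (0 : V)
    rw [Nat.card_congr (β := {v : V // ¬ v = 0}) (Equiv.ofBijective (fun g : ↥U =>
      ⟨(g : H) • x, fun h => hx (by
        rw [hlin _ (hUb _ g.2)] at h
        exact (map_eq_zero_iff (L g) (hinjL g)).mp h)⟩)
      ⟨fun g h e => Subtype.ext (inv_mul_eq_one.mp (hUfree _ (U.mul_mem (U.inv_mem g.2) h.2) x hx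
        (by rw [mul_smul, ← show (g : H) • x = (h : H) • x from congrArg Subtype.val e, inv_smul_smul]))), fun y => by
        obtain ⟨g, hg, hgy⟩ := hUtrans x y hx y.2
        exact ⟨⟨g, hg⟩, Subtype.ext hgy⟩⟩), Nat.card_eq_fintype_card, Fintype.card_subtype_compl,
      Fintype.card_subtype_eq, ← Nat.card_eq_fintype_card, hcard]
  -- the stabiliser acts on `U` through the Galois group
  have hconj : ∀ r, b r = 0 → ∃ i : ℕ, ∀ g ∈ U, r * g * r⁻¹ = g ^ 2 ^ i := by
    intro r hr
    obtain ⟨k, hk⟩ := hnorm r hr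
    have hk' : r * u = u ^ k * r := mul_inv_eq_iff_eq_mul.mp hk
    obtain ⟨i, hi⟩ := singer_galois (by omega) hcard h2 (L u) (L r) (hinjL u) (hinjL r)
      (fun v w hv hw => (htr v w hv hw).imp fun m hm => by rwa [← map_pow]) (k := k) (fun x => by
        have e := congrArg (fun g => L g x) hk'
        simp only [map_mul, map_pow] at e
        exact e)
    have hki : u ^ k = u ^ 2 ^ i := hL (AddMonoidHom.ext fun x => by rw [map_pow, map_pow]; exact hi x)
    refine ⟨i, fun g hg => ?_⟩
    obtain ⟨m, rfl⟩ := (hUpow g).mp hg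
    rw [← conj_pow, hk, hki, pow_right_comm]
  have hUnorm : ∀ r ∈ stabilizer H (0 : V), ∀ g ∈ U, r * g * r⁻¹ ∈ U := fun r hr g hg => by
    obtain ⟨i, hi⟩ := hconj r ((hstab r).mp hr)
    rw [hi g hg]
    exact pow_mem hg _
  have hMpos : 0 < M := hUcard ▸ Nat.card_pos
  have hModd : Odd M := Nat.Even.sub_odd (Nat.one_le_two_pow) ((Nat.even_pow).mpr ⟨even_two, by omega⟩) odd_one
  have hcop : (Nat.card ↥U).Coprime 2 := by
    rw [hUcard]; exact (Nat.coprime_two_right).mpr hModd
  let σ : MulAut ↥U :=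
    { powCoprime hcop with
      map_mul' := fun g h => (show Commute g h from Subtype.ext (hUcomm g g.2 h h.2)).mul_pow 2 }
  have hσ : ∀ (i : ℕ) (g : ↥U), (σ ^ i) g = g ^ 2 ^ i := by
    intro i
    induction i with
    | zero => intro g; simp
    | succ i ih =>
      intro g
      rw [pow_succ']
      show ((σ ^ i) g) ^ 2 = _
      rw [ih, ← pow_mul, ← pow_succ]
  have hσn : σ ^ n = 1 := MulEquiv.ext fun g => by
    rw [hσ, show 2 ^ n = Nat.card ↥U + 1 by rw [hUcard]; omega, pow_succ, pow_card_eq_one', one_mul]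
    rfl
  have hle : stabilizer H (0 : V) ≤ normalizer (U : Set H) := fun r hr =>
    mem_normalizer_iff.mpr fun g => ⟨fun hg => hUnorm r hr g hg, fun hg => by
      simpa [mul_assoc] using hUnorm r⁻¹ (inv_mem hr) _ hg⟩
  let θ : ↥(stabilizer H (0 : V)) →* MulAut ↥U := U.normalizerMonoidHom.comp (Subgroup.inclusion hle)
  have hθ : ∀ (r : ↥(stabilizer H (0 : V))) (g : ↥U), ((θ r g : ↥U) : H) = r * g * (r : H)⁻¹ :=
    fun r g => rfl
  have hθσ : ∀ r, ∃ i : ℕ, θ r = σ ^ i ∧ ∀ g ∈ U, (r : H) * g * (r : H)⁻¹ = g ^ 2 ^ i := by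
    intro r
    obtain ⟨i, hi⟩ := hconj r ((hstab r).mp r.2)
    exact ⟨i, MulEquiv.ext fun g => Subtype.ext (by
      rw [hθ, hσ, hi g g.2, SubmonoidClass.coe_pow]), hi⟩
  have hker : θ.ker = U.subgroupOf (stabilizer H (0 : V)) := by
    ext r
    rw [MonoidHom.mem_ker, mem_subgroupOf]
    refine ⟨fun h => hcentU r ((hstab r).mp r.2) ?_, fun h => MulEquiv.ext fun g => Subtype.ext ?_⟩
    · have := hθ r ⟨u, mem_zpowers u⟩
      rw [h] at this
      exact mul_inv_eq_iff_eq_mul.mp this.symm
    · rw [hθ, hUcomm _ h g g.2, mul_inv_cancel_right]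
      rfl
  set d := Nat.card θ.range with hd
  have hstabcard : Nat.card ↥(stabilizer H (0 : V)) = d * Nat.card ↥U := by
    rw [Subgroup.card_eq_card_quotient_mul_card_subgroup θ.ker,
      Nat.card_congr (QuotientGroup.quotientKerEquivRange θ).toEquiv, hker,
      Nat.card_congr (Subgroup.subgroupOfEquivOfLe hUle).toEquiv]
  have hdn : d ∣ n := by
    refine (Subgroup.card_dvd_of_le (show θ.range ≤ zpowers σ from ?_)).trans
      (by rw [Nat.card_zpowers]; exact orderOf_dvd_of_pow_eq_one hσn)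
    rintro _ ⟨r, rfl⟩
    obtain ⟨i, hi, -⟩ := hθσ r
    exact hi ▸ pow_mem (mem_zpowers σ) i
  have hordodd : ∀ r : ↥(stabilizer H (0 : V)), Odd (orderOf r) := fun r => by
    rw [← Subgroup.orderOf_coe]; exact hodd _ ((hstab _).mp r.2)
  have hdodd : Odd d := by
    rw [← Nat.not_even_iff_odd, even_iff_two_dvd]
    intro h
    obtain ⟨r, hr⟩ := exists_prime_orderOf_dvd_card' (G := ↥(stabilizer H (0 : V))) 2
      (hstabcard ▸ h.mul_right _)
    exact absurd (hordodd r) (by rw [hr]; decide)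
  have hb' : ∃ x : V, x ≠ (0 : V) := by
    haveI : Nontrivial V := Finite.one_lt_card_iff_nontrivial.mp (hcard ▸ Nat.one_lt_two_pow (by omega))
    exact exists_ne _
  -- the prime
  obtain ⟨p, hp, hpM, hpn, hpeq⟩ : ∃ p : ℕ, p.Prime ∧ p ∣ M ∧ (∀ i, p ∣ 2 ^ i - 1 → n ∣ 2 * i) ∧
      (n = 6 → p = 7) := by
    rcases eq_or_ne n 6 with rfl | h6
    · refine ⟨7, by norm_num, by norm_num [hM], fun i hi => ?_, fun _ => rfl⟩
      rw [Arith.dvd_pow_sub_one_iff (by norm_num), orderOf_eq_prime (p := 3) (by decide) (by decide)] at hi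
      exact Nat.mul_dvd_mul_left 2 hi
    · obtain ⟨p, hp⟩ := Arith.exists_isPPD (a := 2) (n := n) one_lt_two (by omega) (fun h => h6 h.2)
        (fun ⟨_, m, hm⟩ => by
          rcases m with _ | m
          · omega
          · rw [pow_succ] at hm; omega)
      exact ⟨p, hp.1, hp.2.1, fun i hi => ((hp.dvd_iff (by norm_num) (by omega)).mp hi).mul_left 2,
        fun h => absurd h h6⟩
  haveI : Fact p.Prime := ⟨hp⟩
  obtain ⟨ρ, hρ⟩ := exists_prime_orderOf_dvd_card' (G := ↥U) p (by rwa [hUcard])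
  let R : Subgroup H := zpowers (ρ : H)
  have hRcard : Nat.card ↥R = p := by rw [Nat.card_zpowers, Subgroup.orderOf_coe, hρ]
  have S : Setting H (0 : V) U R :=
    { trans := fun x => (hsurj x).imp fun g hg => show b g + L g 0 = x by rw [map_zero, add_zero, hg]
      faithful := fun g h => by
        have h0 : b g = 0 := (hstab g).mp (h 0)
        refine hL (AddMonoidHom.ext fun x => ?_)
        rw [map_one]
        exact (hlin g h0 x).symm.trans (h x)
      U_le := hUle
      U_norm := hUnorm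
      U_comm := hUcomm
      U_trans := hUtrans
      U_free := hUfree
      R_le := zpowers_le.mpr ρ.2
      R_norm := fun r hr x hx => by
        obtain ⟨i, hi⟩ := hconj r ((hstab r).mp hr)
        rw [hi x (zpowers_le.mpr ρ.2 hx)]
        exact pow_mem hx _
      R_prime := hRcard.symm ▸ hp
      R_cent := fun r hr hcomm => by
        obtain ⟨i, hi, hig⟩ := hθσ ⟨r, hr⟩
        have hfixρ : (ρ : H) ^ 2 ^ i = (ρ : H) := by
          rw [← hig ρ ρ.2, hcomm ρ (mem_zpowers _), mul_inv_cancel_right]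
        have h2i : p ∣ 2 ^ i - 1 := by
          rw [← hρ, ← Subgroup.orderOf_coe]
          refine orderOf_dvd_of_pow_eq_one (mul_right_cancel (b := (ρ : H)) ?_)
          rw [← pow_succ, Nat.sub_add_cancel Nat.one_le_two_pow, hfixρ, one_mul]
        have hsq : θ ⟨r, hr⟩ ^ 2 = 1 := by
          obtain ⟨c, hc⟩ := hpn i h2i
          rw [hi, ← pow_mul, mul_comm, hc, pow_mul, hσn, one_pow]
        have hone : θ ⟨r, hr⟩ = 1 := by
          rw [← orderOf_eq_one_iff]
          have h2d := orderOf_dvd_of_pow_eq_one hsq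
          have hod : Odd (orderOf (θ ⟨r, hr⟩)) :=
            (hordodd ⟨r, hr⟩).of_dvd_nat (orderOf_map_dvd θ _)
          rcases (Nat.dvd_prime Nat.prime_two).mp h2d with h | h
          · exact h
          · rw [h] at hod; exact absurd hod (by decide)
        have : (⟨r, hr⟩ : ↥(stabilizer H (0 : V))) ∈ θ.ker := hone
        rwa [hker, mem_subgroupOf] at this }
  have hno : ∀ Y : Subgroup H, Y.Normal → (∀ x ∈ Y, ∀ y ∈ Y, x * y = y * x) → Y = ⊥ := fun Y hY hab =>
    no_abelian_normal (by omega) hcard L hL S (fun g hg => hlin g (hUb g hg)) hY hab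
  rcases Nat.lt_or_ge d 2 with hd1 | hd2
  · have hd1' : d = 1 := by
      have := hdodd.pos
      omega
    haveI : Nontrivial H := by
      obtain ⟨x, hx⟩ := hb'
      obtain ⟨g, hg⟩ := hsurj x
      exact ⟨g, 1, fun h => hx (by rw [← hg, h, hb1])⟩
    refine S.false_of_meet_le hb' hno (Q := ⊤) inferInstance top_ne_bot fun r _ hr => ?_
    have : (⟨r, hr⟩ : ↥(stabilizer H (0 : V))) ∈ θ.ker := by
      have h : θ ⟨r, hr⟩ ∈ θ.range := ⟨_, rfl⟩
      rwa [Subgroup.card_eq_one.mp (hd ▸ hd1' : Nat.card θ.range = 1), mem_bot] at h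
    rwa [hker, mem_subgroupOf] at this
  haveI : Fintype H := Fintype.ofFinite H
  haveI : Fintype ↥U := Fintype.ofFinite _
  obtain ⟨Y, hY, hne, hab⟩ := S.exists_abelian_normal hb' hd2 hstabcard (by
    have hdle : d ≤ n := Nat.le_of_dvd (by omega) hdn
    have hd3 : 3 ≤ d := by obtain ⟨c, hc⟩ := hdodd; omega
    have hpn' : p ≤ M := Nat.le_of_dvd hMpos hpM
    rw [hUcard, hRcard]
    rcases Nat.lt_or_ge n 8 with h8 | h8
    · obtain ⟨c, hc⟩ := hdodd
      interval_cases n
      · omega
      · omega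
      · -- n = 4
        interval_cases d <;> omega
      · -- n = 5
        obtain rfl : p = 31 := (Nat.prime_dvd_prime_iff_eq hp (by norm_num)).mp (by simpa [hM] using hpM)
        interval_cases d <;> omega
      · -- n = 6
        obtain rfl : p = 7 := hpeq rfl
        interval_cases d <;> omega
      · -- n = 7
        obtain rfl : p = 127 := (Nat.prime_dvd_prime_iff_eq hp (by norm_num)).mp (by simpa [hM] using hpM)
        interval_cases d <;> omega
    · left
      have h1 := pow_bound n h8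
      have h2' : d * d ≤ n * n := Nat.mul_le_mul hdle hdle
      have h3 : 3 ≤ p := by
        have := hp.two_le
        rcases eq_or_ne p 2 with rfl | h
        · exact absurd ((Nat.odd_iff.mp hModd)) (by omega)
        · omega
      have h4 : 3 * (2 * d * d + 1) ≤ 2 * M := by rw [mul_assoc]; omega
      nlinarith)
  exact hne (hno Y hY hab)

end Cfsg.Agent.H53.Exotic
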