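import Mathlib

/-!
Nonnegative integer vectors of equal weighted sum with norm `d + 1` and inner products `d`: when
there are more than `d + 2` of them they are a common vector plus distinct unit vectors outside its
support.
-/

set_option autoImplicit false

namespace Cfsg.Agent.H53.Exotic

open Finset

variable {ι : Type*} [Fintype ι] [DecidableEq ι]

/-- An integer vector of norm two and weighted sum zero is a difference of unit vectors. -/
theorem root_of_norm_two {x : ι → ℤ} {w : ι → ℝ} (hw : ∀ i, 0 < w i)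
    (hn : ∑ i, x i ^ 2 = 2) (hs : ∑ i, (x i : ℝ) * w i = 0) :
    ∃ p q : ι, p ≠ q ∧ ∀ i, x i = (if i = p then 1 else 0) - (if i = q then 1 else 0) := by
  have hne : ∃ i, x i ≠ 0 := by
    by_contra! h
    simp [h] at hn
  obtain ⟨p, hp⟩ : ∃ i, 0 < x i := by
    by_contra! h
    obtain ⟨i, hi⟩ := hne
    have := Finset.sum_lt_sum (s := univ) (f := fun j => (x j : ℝ) * w j) (g := fun _ => (0 : ℝ))
      (fun j _ => mul_nonpos_of_nonpos_of_nonneg (by exact_mod_cast h j) (hw j).le)
      ⟨i, mem_univ _, mul_neg_of_neg_of_pos (by exact_mod_cast lt_of_le_of_ne (h i) hi) (hw i)⟩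
    simp [hs] at this
  obtain ⟨q, hq⟩ : ∃ i, x i < 0 := by
    by_contra! h
    have := Finset.sum_lt_sum (s := univ) (f := fun _ => (0 : ℝ)) (g := fun j => (x j : ℝ) * w j)
      (fun j _ => mul_nonneg (by exact_mod_cast h j) (hw j).le)
      ⟨p, mem_univ _, mul_pos (by exact_mod_cast hp) (hw p)⟩
    simp [hs] at this
  have hpq : p ≠ q := fun h => by rw [h] at hp; omega
  refine ⟨p, q, hpq, fun i => ?_⟩
  have h1 : x p ^ 2 + x q ^ 2 + ∑ j ∈ (univ.erase p).erase q, x j ^ 2 = 2 := by
    rw [← hn, ← Finset.add_sum_erase _ _ (mem_univ p),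
      ← Finset.add_sum_erase _ _ (mem_erase.mpr ⟨hpq.symm, mem_univ q⟩), add_assoc]
  have h2 : 0 ≤ ∑ j ∈ (univ.erase p).erase q, x j ^ 2 := Finset.sum_nonneg fun j _ => sq_nonneg _
  have hp1 : x p = 1 := by nlinarith
  have hq1 : x q = -1 := by nlinarith
  rcases eq_or_ne i p with rfl | hip
  · simp [hp1, hpq]
  rcases eq_or_ne i q with rfl | hiq
  · simp [hq1, hip]
  have h3 : x i ^ 2 ≤ ∑ j ∈ (univ.erase p).erase q, x j ^ 2 :=
    Finset.single_le_sum (f := fun j => x j ^ 2) (fun j _ => sq_nonneg _) (by simp [hip, hiq])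
  have : x i = 0 := by nlinarith
  simp [this, hip, hiq]

omit [Fintype ι] in
/-- Two differences of unit vectors without a common plus or minus coordinate do not differ by
a difference of unit vectors. -/
theorem two_plus {P Q P' Q' A B : ι} (n1 : P ≠ Q) (n2 : P' ≠ Q') (hP : P ≠ P') (hQ : Q ≠ Q')
    (hx : ∀ i, (if i = A then (1 : ℤ) else 0) - (if i = B then 1 else 0) =
      ((if i = P then (1 : ℤ) else 0) - (if i = Q then 1 else 0)) -
      ((if i = P' then (1 : ℤ) else 0) - (if i = Q' then 1 else 0))) : False := by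
  have h1 : P = A ∧ P ≠ Q' := by
    have h := hx P
    rw [if_pos rfl, if_neg n1, if_neg hP] at h
    refine ⟨?_, ?_⟩
    · by_contra c
      rw [if_neg c] at h
      split_ifs at h <;> omega
    · intro c
      rw [if_pos c] at h
      split_ifs at h <;> omega
  have h2 : Q' = A := by
    have h := hx Q'
    rw [if_pos rfl, if_neg hQ.symm, if_neg n2.symm, if_neg h1.2.symm] at h
    by_contra c
    rw [if_neg c] at h
    split_ifs at h <;> omega
  exact h1.2 (h1.1.trans h2.symm)

omit [Fintype ι] in
/-- The vectors are a common vector plus or minus distinct unit vectors. -/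
theorem star {O : Type*} (o₀ : O) (h3 : ∃ a b : O, a ≠ o₀ ∧ b ≠ o₀ ∧ a ≠ b) (v : O → ι → ℤ)
    (hd : ∀ o o', o ≠ o' → ∃ p q : ι, p ≠ q ∧
      ∀ i, v o i - v o' i = (if i = p then 1 else 0) - (if i = q then 1 else 0)) :
    ∃ (b : ι → ℤ) (s : ℤ) (g : O → ι), (s = 1 ∨ s = -1) ∧ Function.Injective g ∧
      ∀ o i, v o i = b i + s * (if i = g o then 1 else 0) := by
  classical
  choose p q hpq hv using hd
  -- two vectors share one of the two coordinates
  have hshare : ∀ o o' (ho : o ≠ o₀) (ho' : o' ≠ o₀), o ≠ o' →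
      (p o o₀ ho = p o' o₀ ho' ∧ q o o₀ ho ≠ q o' o₀ ho') ∨
      (p o o₀ ho ≠ p o' o₀ ho' ∧ q o o₀ ho = q o' o₀ ho') := by
    intro o o' ho ho' hne
    have e1 := hv o o₀ ho
    have e2 := hv o' o₀ ho'
    have e3 := hv o o' hne
    have hx : ∀ i, (if i = p o o' hne then (1 : ℤ) else 0) - (if i = q o o' hne then 1 else 0) =
        ((if i = p o o₀ ho then (1 : ℤ) else 0) - (if i = q o o₀ ho then 1 else 0)) -
        ((if i = p o' o₀ ho' then (1 : ℤ) else 0) - (if i = q o' o₀ ho' then 1 else 0)) := fun i => by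
      rw [← e1, ← e2, ← e3]; ring
    have n1 := hpq o o₀ ho
    have n2 := hpq o' o₀ ho'
    have n3 := hpq o o' hne
    generalize p o o₀ ho = P, q o o₀ ho = Q, p o' o₀ ho' = P', q o' o₀ ho' = Q',
      p o o' hne = A, q o o' hne = B at *
    by_cases hP : P = P'
    · refine Or.inl ⟨hP, fun hQ => ?_⟩
      have := hx A
      simp [hP, hQ, n3] at this
    · refine Or.inr ⟨hP, ?_⟩
      by_contra hQ
      exact two_plus n1 n2 hP hQ hx
  obtain ⟨o₁, o₂, h1, h2, h12⟩ := h3
  rcases hshare o₁ o₂ h1 h2 h12 with ⟨hp, hq⟩ | ⟨hp, hq⟩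
  · -- common plus coordinate
    have hall : ∀ o (ho : o ≠ o₀), p o o₀ ho = p o₁ o₀ h1 := by
      intro o ho
      rcases eq_or_ne o o₁ with rfl | hne1
      · rfl
      rcases hshare o o₁ ho h1 hne1 with ⟨h, -⟩ | ⟨h, h'⟩
      · exact h
      rcases eq_or_ne o o₂ with rfl | hne2
      · exact absurd hp.symm h
      rcases hshare o o₂ ho h2 hne2 with ⟨e, -⟩ | ⟨-, e⟩
      · exact absurd (e.trans hp.symm) h
      · exact absurd (h'.symm.trans e) hq
    let g : O → ι := fun o => if ho : o = o₀ then p o₁ o₀ h1 else q o o₀ ho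
    refine ⟨fun i => v o₀ i + if i = p o₁ o₀ h1 then 1 else 0, -1, g, Or.inr rfl, ?_, ?_⟩
    · intro o o' he
      simp only [g] at he
      split_ifs at he with c c'
      · rw [c, c']
      · exact absurd he (by rw [← hall o' c']; exact hpq o' o₀ c')
      · exact absurd he.symm (by rw [← hall o c]; exact hpq o o₀ c)
      · by_contra hne
        rcases hshare o o' c (by assumption) hne with ⟨-, e⟩ | ⟨e, -⟩
        · exact e he
        · exact e ((hall o _).trans (hall o' _).symm)
    · intro o i
      by_cases ho : o = o₀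
      · subst ho
        simp only [g, dif_pos]
        split_ifs <;> ring
      · simp only [g, dif_neg ho]
        have := hv o o₀ ho i
        rw [hall o ho] at this
        linarith
  · -- common minus coordinate
    have hall : ∀ o (ho : o ≠ o₀), q o o₀ ho = q o₁ o₀ h1 := by
      intro o ho
      rcases eq_or_ne o o₁ with rfl | hne1
      · rfl
      rcases hshare o o₁ ho h1 hne1 with ⟨h', h⟩ | ⟨-, h⟩
      · rcases eq_or_ne o o₂ with rfl | hne2
        · exact absurd hq.symm h
        rcases hshare o o₂ ho h2 hne2 with ⟨e, -⟩ | ⟨-, e⟩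
        · exact absurd (h'.symm.trans e) hp
        · exact absurd (e.trans hq.symm) h
      · exact h
    let g : O → ι := fun o => if ho : o = o₀ then q o₁ o₀ h1 else p o o₀ ho
    refine ⟨fun i => v o₀ i - if i = q o₁ o₀ h1 then 1 else 0, 1, g, Or.inl rfl, ?_, ?_⟩
    · intro o o' he
      simp only [g] at he
      split_ifs at he with c c'
      · rw [c, c']
      · exact absurd he.symm (by rw [← hall o' c']; exact hpq o' o₀ c')
      · exact absurd he (by rw [← hall o c]; exact hpq o o₀ c)
      · by_contra hne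
        rcases hshare o o' c (by assumption) hne with ⟨-, e⟩ | ⟨e, -⟩
        · exact e ((hall o _).trans (hall o' _).symm)
        · exact e he
    · intro o i
      by_cases ho : o = o₀
      · subst ho
        simp only [g, dif_pos]
        split_ifs <;> ring
      · simp only [g, dif_neg ho]
        have := hv o o₀ ho i
        rw [hall o ho] at this
        linarith

end Cfsg.Agent.H53.Exotic
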