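import Cfsg.Agent.H53.Exotic.Perm
import Cfsg.Agent.H53.Exotic.Star
import Cfsg.Agent.CharBasic.Kernel
import Cfsg.Agent.CharBasic.Virtual
import Cfsg.Agent.CharInduce.Ops
import Cfsg.Agent.CharInduce.Induce

/-!
A transitive group with a point stabiliser of the shape `U ⋊ D`, `U` abelian and regular on the
other points, `D` of small order, has a nontrivial abelian normal subgroup.
-/

set_option autoImplicit false
set_option linter.style.haveILetI false
set_option linter.unusedSectionVars false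

namespace Cfsg.Agent.H53.Exotic

open MulAction Subgroup Cfsg Cfsg.Agent.CharBasic Cfsg.Agent
open scoped ComplexConjugate

universe u v

variable {K : Type u} [Group K] {Γ : Type v} [MulAction K Γ] {a : Γ} {U R : Subgroup K}

/-- `ψ` is nontrivial on `R`. -/
def NT (R : Subgroup K) (ψ : IrrCharacter ↥U) : Prop :=
  ∃ x : ↥U, (x : K) ∈ R ∧ (ψ : ↥U → ℂ) x ≠ 1

namespace Setting

section Conj

variable (S : Setting K a U R)

theorem inv_mem {k : K} (hk : k • a = a) : k⁻¹ • a = a := inv_smul_eq_iff.mpr hk.symm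

/-- Conjugation by an element of the stabiliser. -/
def conjU (k : K) (hk : k • a = a) : ↥U ≃* ↥U where
  toFun u := ⟨k * u * k⁻¹, S.U_norm k hk u u.2⟩
  invFun u := ⟨k⁻¹ * u * k, by simpa using S.U_norm k⁻¹ (inv_mem hk) u u.2⟩
  left_inv u := Subtype.ext (by simp [mul_assoc])
  right_inv u := Subtype.ext (by simp [mul_assoc])
  map_mul' u v := Subtype.ext (by simp [mul_assoc])

/-- The conjugate character. -/
noncomputable def conjChar (k : K) (hk : k • a = a) (ψ : IrrCharacter ↥U) : IrrCharacter ↥U :=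
  ⟨fun u => (ψ : ↥U → ℂ) (S.conjU k hk u), CharInduce.IsIrr.comp ψ.2 (S.conjU k hk).toMonoidHom (S.conjU k hk).surjective⟩

theorem conjChar_apply (k : K) (hk : k • a = a) (ψ : IrrCharacter ↥U) (u : ↥U) :
    (S.conjChar k hk ψ : ↥U → ℂ) u = (ψ : ↥U → ℂ) (S.conjU k hk u) := rfl

theorem conjChar_mul (k l : K) (hk : k • a = a) (hl : l • a = a) (hkl : (k * l) • a = a)
    (ψ : IrrCharacter ↥U) : S.conjChar l hl (S.conjChar k hk ψ) = S.conjChar (k * l) hkl ψ :=
  Subtype.ext (funext fun u => congrArg (ψ : ↥U → ℂ) (Subtype.ext (by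
    show k * (l * u * l⁻¹) * k⁻¹ = k * l * u * (k * l)⁻¹
    group)))

theorem conjChar_one (h : (1 : K) • a = a) (ψ : IrrCharacter ↥U) : S.conjChar 1 h ψ = ψ :=
  Subtype.ext (funext fun u => congrArg (ψ : ↥U → ℂ) (Subtype.ext (by
    show 1 * (u : K) * 1⁻¹ = u
    group)))

theorem conjChar_left {u k : K} (hu : u ∈ U) (hk : k • a = a) (huk : (u * k) • a = a)
    (ψ : IrrCharacter ↥U) : S.conjChar (u * k) huk ψ = S.conjChar k hk ψ :=
  Subtype.ext (funext fun v => congrArg (ψ : ↥U → ℂ) (Subtype.ext (by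
    show u * k * v * (u * k)⁻¹ = k * v * k⁻¹
    calc u * k * v * (u * k)⁻¹ = u * (k * v * k⁻¹) * u⁻¹ := by group
      _ = k * v * k⁻¹ := by rw [S.U_comm u hu _ (S.U_norm k hk v v.2), mul_inv_cancel_right])))

theorem conjChar_right {v k : K} (hv : v ∈ U) (hk : k • a = a) (hkv : (k * v) • a = a)
    (ψ : IrrCharacter ↥U) : S.conjChar (k * v) hkv ψ = S.conjChar k hk ψ :=
  Subtype.ext (funext fun u => congrArg (ψ : ↥U → ℂ) (Subtype.ext (by
    show k * v * u * (k * v)⁻¹ = k * u * k⁻¹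
    calc k * v * u * (k * v)⁻¹ = k * (v * u) * v⁻¹ * k⁻¹ := by group
      _ = k * u * k⁻¹ := by rw [S.U_comm v hv u u.2]; group)))

/-- Only the coset of the conjugating element matters. -/
theorem conjChar_coset {k : K} (hk : k • a = a) (ψ : IrrCharacter ↥U)
    {x : ↥(stabilizer K a)} (hx : x = ((⟨k, hk⟩ : ↥(stabilizer K a)) :
        ↥(stabilizer K a) ⧸ U.subgroupOf (stabilizer K a)).out) :
    S.conjChar (x : K) x.2 ψ = S.conjChar k hk ψ := by
  obtain ⟨v, hv⟩ := QuotientGroup.mk_out_eq_mul (U.subgroupOf (stabilizer K a)) ⟨k, hk⟩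
  have hkv : (k * ((v : ↥(stabilizer K a)) : K)) • a = a := ((⟨k, hk⟩ : ↥(stabilizer K a)) * v).2
  rw [← S.conjChar_right (mem_subgroupOf.mp v.2) hk hkv ψ]
  congr 1
  rw [hx, hv]
  rfl

theorem nt_conjChar {k : K} (hk : k • a = a) {ψ : IrrCharacter ↥U} (h : NT R ψ) :
    NT R (S.conjChar k hk ψ) := by
  obtain ⟨x, hx, hne⟩ := h
  refine ⟨(S.conjU k hk).symm x, ?_, by rwa [conjChar_apply, MulEquiv.apply_symm_apply]⟩
  show k⁻¹ * (x : K) * k ∈ R
  simpa using S.R_norm k⁻¹ (inv_mem hk) x hx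

/-- Two characters are related when conjugate under the stabiliser. -/
def setoid : Setoid {ψ : IrrCharacter ↥U // NT R ψ} where
  r ψ φ := ∃ (k : K) (hk : k • a = a), S.conjChar k hk φ.1 = ψ.1
  iseqv := by
    refine ⟨fun ψ => ⟨1, one_smul _ _, S.conjChar_one _ _⟩, ?_, ?_⟩
    · rintro ψ φ ⟨k, hk, e⟩
      refine ⟨k⁻¹, inv_mem hk, ?_⟩
      rw [← e, S.conjChar_mul k k⁻¹ hk (inv_mem hk) (by rw [mul_inv_cancel, one_smul])]
      simpa using S.conjChar_one (one_smul K a) φ.1
    · rintro ψ φ η ⟨k, hk, e⟩ ⟨l, hl, e'⟩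
      refine ⟨l * k, by rw [mul_smul, hk, hl], ?_⟩
      rw [← e, ← e', S.conjChar_mul l k hl hk]

end Conj

section Chars

variable [Fintype K] [Fintype ↥U]

theorem irr_hom (S : Setting K a U R) (ψ : IrrCharacter ↥U) :
    ∃ l : ↥U →* ℂˣ, ∀ u, (ψ : ↥U → ℂ) u = (l u : ℂ) :=
  CharInduce.IsChar.exists_hom_of_degree_one (IsIrr.isCharacter ψ.2)
    (commutative_iff_forall_linear.mp (fun x y => Subtype.ext (S.U_comm x x.2 y y.2)) ψ)

theorem irr_one (S : Setting K a U R) (ψ : IrrCharacter ↥U) : (ψ : ↥U → ℂ) 1 = 1 :=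
  commutative_iff_forall_linear.mp (fun x y => Subtype.ext (S.U_comm x x.2 y y.2)) ψ

/-- The multiplicity of `ψ` in the restriction of `θ`. -/
noncomputable def mult (θ : IrrCharacter K) (ψ : IrrCharacter ↥U) : ℕ :=
  (classInner_isChar_nat (CharInduce.IsChar.res (IsIrr.isCharacter θ.2) U)
    (IsIrr.isCharacter ψ.2)).choose

theorem mult_spec (θ : IrrCharacter K) (ψ : IrrCharacter ↥U) :
    classInner (fun u : ↥U => (θ : K → ℂ) u) (ψ : ↥U → ℂ) = (mult θ ψ : ℂ) :=
  (classInner_isChar_nat (CharInduce.IsChar.res (IsIrr.isCharacter θ.2) U)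
    (IsIrr.isCharacter ψ.2)).choose_spec

theorem res_eq (θ : IrrCharacter K) (u : ↥U) :
    (θ : K → ℂ) u = ∑ ψ : IrrCharacter ↥U, (mult θ ψ : ℂ) * (ψ : ↥U → ℂ) u := by
  have h := congrFun (classFunction_expansion
    (IsChar.isClassFunction (CharInduce.IsChar.res (IsIrr.isCharacter θ.2) U))) u
  simp only [Finset.sum_apply, Pi.smul_apply, smul_eq_mul, mult_spec] at h
  exact h

/-- The degree. -/
noncomputable def deg (θ : IrrCharacter K) : ℕ := (IsIrr.degree_dvd θ.2).choose

theorem deg_spec (θ : IrrCharacter K) : 0 < deg θ ∧ (θ : K → ℂ) 1 = deg θ ∧ deg θ ∣ Nat.card K :=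
  ⟨(IsIrr.degree_dvd θ.2).choose_spec.1, (IsIrr.degree_dvd θ.2).choose_spec.2.1,
    (IsIrr.degree_dvd θ.2).choose_spec.2.2.1⟩

theorem deg_eq (S : Setting K a U R) (θ : IrrCharacter K) :
    deg θ = ∑ ψ : IrrCharacter ↥U, mult θ ψ := by
  have h := res_eq (U := U) θ 1
  simp only [S.irr_one, mul_one, OneMemClass.coe_one] at h
  rw [(deg_spec θ).2.1] at h
  exact_mod_cast h

theorem mult_conj (S : Setting K a U R) (θ : IrrCharacter K) {k : K} (hk : k • a = a)
    (ψ : IrrCharacter ↥U) : mult θ (S.conjChar k hk ψ) = mult θ ψ := by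
  have h : classInner (fun u : ↥U => (θ : K → ℂ) u) (S.conjChar k hk ψ : ↥U → ℂ) =
      classInner (fun u : ↥U => (θ : K → ℂ) u) (ψ : ↥U → ℂ) := by
    simp only [classInner_def]
    congr 1
    refine Fintype.sum_equiv (S.conjU k hk).toEquiv _ _ fun u => ?_
    show _ = (θ : K → ℂ) (k * u * k⁻¹) * _
    rw [IsIrr.isClassFunction θ.2 u k]
    rfl
  rw [mult_spec, mult_spec] at h
  exact_mod_cast h

theorem ind_inner_irr (ψ : IrrCharacter ↥U) (θ : IrrCharacter K) :
    classInner (indFun U (ψ : ↥U → ℂ)) (θ : K → ℂ) = (mult θ ψ : ℂ) := by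
  rw [CharInduce.classInner_indFun_left U _ _ (IsIrr.isClassFunction θ.2),
    ← classInner_conj_symm, mult_spec, map_natCast]

theorem ind_inner (ψ φ : IrrCharacter ↥U) :
    classInner (indFun U (ψ : ↥U → ℂ)) (indFun U (φ : ↥U → ℂ)) =
      ((∑ θ : IrrCharacter K, mult θ ψ * mult θ φ : ℕ) : ℂ) := by
  rw [classInner_eq_sum (CharInduce.isClassFunction_indFun U _)]
  simp [ind_inner_irr]

theorem deg_sum (ψ : IrrCharacter ↥U) (S : Setting K a U R) :
    ∑ θ : IrrCharacter K, mult θ ψ * deg θ = U.index := by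
  have h := congrFun (classFunction_expansion
    (CharInduce.isClassFunction_indFun U (ψ : ↥U → ℂ))) (1 : K)
  rw [CharInduce.indFun_one, S.irr_one, mul_one] at h
  simp only [Finset.sum_apply, Pi.smul_apply, smul_eq_mul, ind_inner_irr,
    (deg_spec _).2.1] at h
  exact_mod_cast h.symm

theorem card_points [Finite Γ] (S : Setting K a U R) (hb : ∃ b : Γ, b ≠ a) :
    Nat.card Γ = Nat.card ↥U + 1 := by
  classical
  obtain ⟨b, hb⟩ := hb
  have hU : ∀ u ∈ U, u • a = a := fun u hu => S.U_le hu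
  let f : Option ↥U → Γ := fun o => o.elim a (fun u => (u : K) • b)
  have hf : Function.Bijective f := by
    constructor
    · rintro (_ | u) (_ | v) h
      · rfl
      · exact absurd ((inv_smul_eq_iff.mpr h).symm.trans (hU _ (U.inv_mem v.2))) hb
      · exact absurd ((inv_smul_eq_iff.mpr h.symm).symm.trans (hU _ (U.inv_mem u.2))) hb
      · refine congrArg some (Subtype.ext ?_)
        have := S.U_free ((v : K)⁻¹ * u) (U.mul_mem (U.inv_mem v.2) u.2) b hb
          (by rw [mul_smul]; exact inv_smul_eq_iff.mpr h)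
        exact (inv_mul_eq_one.mp this).symm
    · intro x
      rcases eq_or_ne x a with rfl | hx
      · exact ⟨none, rfl⟩
      · obtain ⟨u, hu, h⟩ := S.U_trans b x hb hx
        exact ⟨some ⟨u, hu⟩, h⟩
  rw [← Nat.card_eq_of_bijective f hf, Finite.card_option]

/-- The inner product of two induced characters. -/
theorem mackey [Finite Γ] (S : Setting K a U R) (hb : ∃ b : Γ, b ≠ a) {d : ℕ}
    (hd : Nat.card ↥(stabilizer K a) = d * Nat.card ↥U) (ψ φ : IrrCharacter ↥U) :
    ∃ c : ℕ, (∑ θ : IrrCharacter K, mult θ ψ * mult θ φ) * Nat.card ↥U = c + d * Nat.card ↥U ∧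
      c = Nat.card {k : K // ∃ hk : k • a = a, S.conjChar k hk φ = ψ} := by
  classical
  refine ⟨_, ?_, rfl⟩
  have hK : Nat.card K = (Nat.card ↥U + 1) * Nat.card ↥(stabilizer K a) := by
    haveI : IsPretransitive K Γ := ⟨fun x y => by
      obtain ⟨k, rfl⟩ := S.trans x
      obtain ⟨l, rfl⟩ := S.trans y
      exact ⟨l * k⁻¹, by rw [mul_smul, inv_smul_smul]⟩⟩
    rw [← (stabilizer K a).card_mul_index, index_stabilizer_of_transitive, S.card_points hb,
      mul_comm]
  have hinner : ∀ x : K,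
      ∑ u : ↥U, (ψ : ↥U → ℂ) u * conj (extendByZero U (φ : ↥U → ℂ) (x * u * x⁻¹)) =
        if hx : x • a = a then (if S.conjChar x hx φ = ψ then (Nat.card ↥U : ℂ) else 0) else 1 := by
    intro x
    split_ifs with hx he
    · subst he
      have : ∀ u : ↥U, extendByZero U (φ : ↥U → ℂ) (x * u * x⁻¹) =
          (S.conjChar x hx φ : ↥U → ℂ) u := fun u =>
        CharInduce.extendByZero_of_mem _ (S.U_norm x hx u u.2)
      simp only [this]
      have h1 := classInner_irr_self (S.conjChar x hx φ).2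
      rw [classInner_def, inv_mul_eq_one₀ (by exact_mod_cast Nat.card_pos.ne')] at h1
      exact h1.symm
    · have : ∀ u : ↥U, extendByZero U (φ : ↥U → ℂ) (x * u * x⁻¹) =
          (S.conjChar x hx φ : ↥U → ℂ) u := fun u =>
        CharInduce.extendByZero_of_mem _ (S.U_norm x hx u u.2)
      simp only [this]
      have h1 := classInner_irr_of_ne ψ.2 (S.conjChar x hx φ).2
        (fun h => he (Subtype.ext h.symm))
      rw [classInner_def, mul_eq_zero] at h1
      exact h1.resolve_left (inv_ne_zero (by exact_mod_cast Nat.card_pos.ne'))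
    · rw [Finset.sum_eq_single (1 : ↥U)]
      · rw [OneMemClass.coe_one, mul_one, mul_inv_cancel, CharInduce.extendByZero_of_mem _ U.one_mem]
        have e : (⟨1, U.one_mem⟩ : ↥U) = 1 := rfl
        simp [e, S.irr_one]
      · intro u _ hu
        rw [CharInduce.extendByZero_of_not_mem, map_zero, mul_zero]
        intro h
        have hx' : x⁻¹ • a ≠ a := fun e => hx (inv_smul_eq_iff.mp e).symm
        exact hu (Subtype.ext (S.ti hx' u.2 (by simpa using h)))
      · simp
  have key : classInner (indFun U (ψ : ↥U → ℂ)) (indFun U (φ : ↥U → ℂ)) *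
      ((Nat.card ↥U : ℂ) * Nat.card ↥U) =
      ∑ x : K, ∑ u : ↥U, (ψ : ↥U → ℂ) u * conj (extendByZero U (φ : ↥U → ℂ) (x * u * x⁻¹)) := by
    rw [CharInduce.classInner_indFun_left U _ _ (CharInduce.isClassFunction_indFun U _),
      classInner_def]
    simp only [CharInduce.indFun_apply, map_mul, map_inv₀, map_natCast, map_sum]
    have hN : (Nat.card ↥U : ℂ) ≠ 0 := by exact_mod_cast Nat.card_pos.ne'
    have e : ∀ f : ↥U → ℂ, (Nat.card ↥U : ℂ)⁻¹ *
        (∑ u : ↥U, (ψ : ↥U → ℂ) u * ((Nat.card ↥U : ℂ)⁻¹ * f u)) *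
        ((Nat.card ↥U : ℂ) * Nat.card ↥U) = ∑ u : ↥U, (ψ : ↥U → ℂ) u * f u := by
      intro f
      rw [Finset.mul_sum, Finset.sum_mul]
      exact Finset.sum_congr rfl fun u _ => by field_simp
    rw [e]
    simp only [Finset.mul_sum]
    rw [Finset.sum_comm]
    refine Fintype.sum_equiv (Equiv.inv K) _ _ fun x => Finset.sum_congr rfl fun u _ => ?_
    simp only [Equiv.inv_apply, inv_inv]
  rw [ind_inner] at key
  simp only [hinner] at key
  have hsplit : ∀ x : K,
      (if hx : x • a = a then (if S.conjChar x hx φ = ψ then (Nat.card ↥U : ℂ) else 0) else 1) =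
      (((if ∃ hx : x • a = a, S.conjChar x hx φ = ψ then Nat.card ↥U else 0) +
        (if x • a ≠ a then 1 else 0) : ℕ) : ℂ) := by
    intro x
    by_cases hx : x • a = a <;> simp [hx]
  simp only [hsplit] at key
  rw [← Nat.cast_sum, Finset.sum_add_distrib, Finset.sum_boole, ← Finset.sum_filter,
    Finset.sum_const, smul_eq_mul, ← Nat.cast_mul, ← Nat.cast_mul, Nat.cast_inj] at key
  simp only [Nat.cast_id] at key
  have h2 : (Finset.univ.filter fun x : K => x • a ≠ a).card = d * Nat.card ↥U * Nat.card ↥U := by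
    have h := Finset.card_filter_add_card_filter_not (s := (Finset.univ : Finset K))
      (fun x : K => x • a = a)
    have h' : (Finset.univ.filter fun x : K => x • a = a).card =
        Nat.card ↥(stabilizer K a) := by
      rw [Nat.card_eq_fintype_card, Fintype.card_subtype]
      rfl
    rw [Finset.card_univ, ← Nat.card_eq_fintype_card, hK, h', hd] at h
    simp only [ne_eq]
    linarith
  rw [h2] at key
  refine Nat.eq_of_mul_eq_mul_right (Nat.card_pos (α := ↥U)) ?_
  rw [show Nat.card {k : K // ∃ hk : k • a = a, S.conjChar k hk φ = ψ} =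
    (Finset.univ.filter fun k : K => ∃ hk : k • a = a, S.conjChar k hk φ = ψ).card by
      rw [Nat.card_eq_fintype_card, Fintype.card_subtype]]
  linarith

theorem nt_stab (S : Setting K a U R) {ψ : IrrCharacter ↥U} (h : NT R ψ) {k : K} (hk : k • a = a)
    (he : ∀ u : ↥U, (u : K) ∈ R → (ψ : ↥U → ℂ) (S.conjU k hk u) = (ψ : ↥U → ℂ) u) : k ∈ U := by
  obtain ⟨l, hl⟩ := S.irr_hom ψ
  obtain ⟨x₀, hx₀, hne⟩ := h
  haveI := Fact.mk S.R_prime
  let lR : ↥R →* ℂˣ := l.comp (Subgroup.inclusion S.R_le)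
  have hinj : Function.Injective lR := by
    refine (MonoidHom.ker_eq_bot_iff lR).mp ?_
    rcases lR.ker.eq_bot_or_eq_top_of_prime_card with h | h
    · exact h
    · exfalso
      have h1 : (⟨x₀, hx₀⟩ : ↥R) ∈ lR.ker := h ▸ mem_top _
      refine hne ?_
      rw [hl x₀, show l x₀ = 1 from h1, Units.val_one]
  refine S.R_cent k hk fun x hx => ?_
  have h1 := he ⟨x, S.R_le hx⟩ hx
  rw [hl, hl, Units.val_inj] at h1
  have h2 : (⟨k * x * k⁻¹, S.R_norm k hk x hx⟩ : ↥R) = ⟨x, hx⟩ := hinj h1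
  exact mul_inv_eq_iff_eq_mul.mp (congrArg Subtype.val h2)

/-- The number of characters nontrivial on `R`. -/
theorem card_nt (S : Setting K a U R) :
    Nat.card {ψ : IrrCharacter ↥U // NT R ψ} * Nat.card ↥R + Nat.card ↥U =
      Nat.card ↥U * Nat.card ↥R := by
  classical
  set R' := R.subgroupOf U with hR'
  have hcardR : Nat.card ↥R' = Nat.card ↥R := Nat.card_congr (subgroupOfEquivOfLe S.R_le).toEquiv
  have hsum : ∀ ψ : IrrCharacter ↥U, ∑ x : ↥R', (ψ : ↥U → ℂ) x =
      if NT R ψ then 0 else (Nat.card ↥R : ℂ) := by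
    intro ψ
    obtain ⟨l, hl⟩ := S.irr_hom ψ
    split_ifs with hn
    · obtain ⟨x₀, hx₀, hne⟩ := hn
      have h : (l x₀ : ℂ) * ∑ x : ↥R', (ψ : ↥U → ℂ) x = ∑ x : ↥R', (ψ : ↥U → ℂ) x := by
        rw [Finset.mul_sum]
        refine Fintype.sum_equiv (Equiv.mulLeft (⟨x₀, mem_subgroupOf.mpr hx₀⟩ : ↥R')) _ _ fun x => ?_
        simp [hl]
      have h' : ((l x₀ : ℂ) - 1) * ∑ x : ↥R', (ψ : ↥U → ℂ) x = 0 := by rw [sub_mul, h, one_mul, sub_self]
      exact (mul_eq_zero.mp h').resolve_left (sub_ne_zero.mpr (by rwa [← hl]))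
    · simp only [NT, not_exists, not_and, not_not] at hn
      rw [Finset.sum_congr rfl fun (x : ↥R') _ => hn (x : ↥U) (mem_subgroupOf.mp x.2), Finset.sum_const,
        Finset.card_univ, nsmul_one, ← Nat.card_eq_fintype_card, hcardR]
  have h1 : ∑ x : ↥R', ∑ ψ : IrrCharacter ↥U, (ψ : ↥U → ℂ) x = (Nat.card ↥U : ℂ) := by
    have h : ∀ x : ↥R', ∑ ψ : IrrCharacter ↥U, (ψ : ↥U → ℂ) x =
        if x = 1 then (Nat.card ↥U : ℂ) else 0 := fun x => by
      have := sum_degree_mul_apply (G := ↥U) (x : ↥U)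
      simpa [S.irr_one] using this
    simp [h]
  rw [Finset.sum_comm, Finset.sum_congr rfl fun ψ _ => hsum ψ, Finset.sum_ite, Finset.sum_const_zero,
    zero_add, Finset.sum_const, nsmul_eq_mul] at h1
  norm_cast at h1
  have hU : Fintype.card (IrrCharacter ↥U) = Nat.card ↥U := by
    have := sum_sq_degree (G := ↥U)
    simp only [S.irr_one, one_pow, Finset.sum_const, Finset.card_univ, nsmul_eq_mul, mul_one] at this
    exact_mod_cast this
  have h2 := Finset.card_filter_add_card_filter_not (s := (Finset.univ : Finset (IrrCharacter ↥U)))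
    (fun ψ => NT R ψ)
  rw [Finset.card_univ, hU] at h2
  rw [Nat.card_eq_fintype_card (α := {ψ // _}), Fintype.card_subtype]
  calc _ = (Finset.univ.filter fun ψ : IrrCharacter ↥U => NT R ψ).card * Nat.card ↥R +
        (Finset.univ.filter fun ψ : IrrCharacter ↥U => ¬ NT R ψ).card * Nat.card ↥R := by rw [h1]
    _ = _ := by rw [← add_mul, h2]

/-- A character of small degree whose restriction to `U` is multiplicity free and regular on `R`. -/
theorem exists_char [Finite Γ] (S : Setting K a U R) (hb : ∃ b : Γ, b ≠ a) {d : ℕ} (hd2 : 2 ≤ d)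
    (hd : Nat.card ↥(stabilizer K a) = d * Nat.card ↥U)
    (hcase : (2 * d * d + 1) * Nat.card ↥R + Nat.card ↥U ≤ Nat.card ↥U * Nat.card ↥R ∨
      (d = 5 ∧ Nat.card ↥U = 31 ∧ Nat.card ↥R = 31)) :
    ∃ χ : IrrCharacter K, deg χ ≤ d ∧
      (∀ ψ : IrrCharacter ↥U, mult χ ψ ≤ 1) ∧ (∀ ψ : IrrCharacter ↥U, mult χ ψ ≠ 0 → NT R ψ) ∧
      (∀ ψ φ : IrrCharacter ↥U, mult χ ψ ≠ 0 → mult χ φ ≠ 0 → ∃ (k : K) (hk : k • a = a), S.conjChar k hk φ = ψ) ∧
      ∀ θ : IrrCharacter K,
        (∀ ψ : IrrCharacter ↥U, ¬ NT R ψ → mult θ ψ = 0) ∨ (∀ ψ : IrrCharacter ↥U, NT R ψ → mult θ ψ = 0) ∨ d * d < deg θ := by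
  classical
  let O := Quotient S.setoid
  let rep : O → IrrCharacter ↥U := fun o => o.out.1
  have hmk : ∀ (θ : IrrCharacter K) (ψ : IrrCharacter ↥U) (h : NT R ψ),
      mult θ ψ = mult θ (rep ⟦⟨ψ, h⟩⟧) := by
    intro θ ψ h
    obtain ⟨k, hk, e⟩ := Quotient.mk_out (s := S.setoid) ⟨ψ, h⟩
    rw [show rep ⟦⟨ψ, h⟩⟧ = S.conjChar k hk ψ from e.symm, S.mult_conj]
  have hidx : (U.subgroupOf (stabilizer K a)).index = d := by
    have h := (U.subgroupOf (stabilizer K a)).card_mul_index
    rw [Nat.card_congr (subgroupOfEquivOfLe S.U_le).toEquiv, hd, mul_comm d] at h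
    exact Nat.eq_of_mul_eq_mul_left Nat.card_pos h
  let F : O × (↥(stabilizer K a) ⧸ U.subgroupOf (stabilizer K a)) →
      {ψ : IrrCharacter ↥U // NT R ψ} := fun p =>
    ⟨S.conjChar (p.2.out : ↥(stabilizer K a)) p.2.out.2 (rep p.1), S.nt_conjChar _ p.1.out.2⟩
  have hF : Function.Bijective F := by
    constructor
    · rintro ⟨o, q⟩ ⟨o', q'⟩ h
      have h' : S.conjChar (q.out : ↥(stabilizer K a)) q.out.2 (rep o) =
          S.conjChar (q'.out : ↥(stabilizer K a)) q'.out.2 (rep o') := congrArg Subtype.val h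
      set k : K := ((q.out : ↥(stabilizer K a)) : K) with hk
      set k' : K := ((q'.out : ↥(stabilizer K a)) : K) with hk'
      have hka : k • a = a := q.out.2
      have hka' : k' • a = a := q'.out.2
      have hoo : o = o' := by
        have h1 : S.setoid.r (F (o, q)) o.out := ⟨k, hka, rfl⟩
        have h2 : S.setoid.r (F (o', q')) o'.out := ⟨k', hka', rfl⟩
        have h3 := Quotient.sound (s := S.setoid) h1
        rw [h, Quotient.sound (s := S.setoid) h2, Quotient.out_eq, Quotient.out_eq] at h3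
        exact h3.symm
      subst hoo
      have hmemU : k' * k⁻¹ ∈ U := by
        refine S.nt_stab o.out.2 (by rw [mul_smul, inv_mem hka, hka']) fun u _ => ?_
        have h0 := congrFun (congrArg Subtype.val h') (S.conjU k⁻¹ (inv_mem hka) u)
        refine Eq.trans (congrArg (rep o : ↥U → ℂ) (Subtype.ext ?_))
          (h0.symm.trans (congrArg (rep o : ↥U → ℂ) (Subtype.ext ?_)))
        · show k' * k⁻¹ * u * (k' * k⁻¹)⁻¹ = k' * (k⁻¹ * u * k⁻¹⁻¹) * k'⁻¹
          group
        · show k * (k⁻¹ * u * k⁻¹⁻¹) * k⁻¹ = u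
          group
      refine Prod.ext rfl ?_
      rw [← Quotient.out_eq q, ← Quotient.out_eq q']
      refine QuotientGroup.eq.mpr (mem_subgroupOf.mpr ?_)
      show k⁻¹ * k' ∈ U
      simpa [mul_assoc] using S.U_norm k⁻¹ (inv_mem hka) _ hmemU
    · rintro ⟨ψ, h⟩
      obtain ⟨k, hk, e⟩ := S.setoid.iseqv.symm (Quotient.mk_out (s := S.setoid) ⟨ψ, h⟩)
      exact ⟨(⟦⟨ψ, h⟩⟧, ((⟨k, hk⟩ : ↥(stabilizer K a)) : _ ⧸ U.subgroupOf (stabilizer K a))),
        Subtype.ext ((S.conjChar_coset hk _ rfl).trans e)⟩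
  have hcnt : Nat.card {ψ : IrrCharacter ↥U // NT R ψ} = Nat.card O * d := by
    rw [← Nat.card_eq_of_bijective F hF, Nat.card_prod, ← Subgroup.index, hidx]
  have hJcase : 2 * d < Nat.card O ∨
      (d = 5 ∧ Nat.card ↥U = 31 ∧ Nat.card ↥R = 31 ∧ Nat.card O = 6) := by
    have h := S.card_nt
    rw [hcnt] at h
    rcases hcase with hbig | ⟨h5, hU, hR⟩
    · refine Or.inl (Nat.lt_of_mul_lt_mul_right (a := d) ?_)
      have hRpos := Nat.card_pos (α := ↥R)
      by_contra hh
      push Not at hh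
      have := Nat.mul_le_mul_right (Nat.card ↥R) hh
      nlinarith
    · rw [h5, hU, hR] at h
      exact Or.inr ⟨h5, hU, hR, by omega⟩
  haveI : Fintype O := Fintype.ofFinite O
  have hJ : d < Fintype.card O := by
    rw [← Nat.card_eq_fintype_card]
    rcases hJcase with h | ⟨h5, -, -, h6⟩ <;> omega
  rw [Nat.card_eq_fintype_card (α := O)] at hJcase hcnt
  have hUpos := Nat.card_pos (α := ↥U)
  -- inner products
  have hstab : ∀ ψ φ : IrrCharacter ↥U, NT R φ →
      Nat.card {k : K // ∃ hk : k • a = a, S.conjChar k hk φ = ψ} =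
        if ∃ (k : K) (hk : k • a = a), S.conjChar k hk φ = ψ then Nat.card ↥U else 0 := by
    intro ψ φ hφ
    split_ifs with hex
    · obtain ⟨k₀, hk₀, e₀⟩ := hex
      refine (Nat.card_eq_of_bijective (fun u : ↥U => (⟨(u : K) * k₀, by
        rw [mul_smul, hk₀]; exact S.U_le u.2, by
        exact (S.conjChar_left u.2 hk₀ _ φ).trans e₀⟩ :
          {k : K // ∃ hk : k • a = a, S.conjChar k hk φ = ψ})) ⟨?_, ?_⟩).symm
      · intro u v h
        exact Subtype.ext (mul_right_cancel (congrArg Subtype.val h))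
      · rintro ⟨k, hk, e⟩
        have hm : k * k₀⁻¹ ∈ U := by
          refine S.nt_stab hφ (by rw [mul_smul, inv_mem hk₀, hk]) fun u _ => ?_
          have h := congrFun (congrArg Subtype.val (e.trans e₀.symm)) (S.conjU k₀⁻¹ (inv_mem hk₀) u)
          simp only [conjChar_apply] at h
          refine Eq.trans (congrArg (φ : ↥U → ℂ) (Subtype.ext ?_))
            (h.trans (congrArg (φ : ↥U → ℂ) (Subtype.ext ?_)))
          · show k * k₀⁻¹ * u * (k * k₀⁻¹)⁻¹ = k * (k₀⁻¹ * u * k₀⁻¹⁻¹) * k⁻¹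
            group
          · show k₀ * (k₀⁻¹ * u * k₀⁻¹⁻¹) * k₀⁻¹ = u
            group
        exact ⟨⟨_, hm⟩, Subtype.ext (by simp)⟩
    · haveI : IsEmpty {k : K // ∃ hk : k • a = a, S.conjChar k hk φ = ψ} :=
        ⟨fun x => hex ⟨x.1, x.2⟩⟩
      exact Nat.card_of_isEmpty
  have hdot : ∀ o o' : O, ∑ θ : IrrCharacter K, mult θ (rep o) * mult θ (rep o') =
      d + if o = o' then 1 else 0 := by
    intro o o'
    obtain ⟨c, hc, hc'⟩ := S.mackey hb hd (rep o) (rep o')
    rw [hstab _ _ o'.out.2] at hc'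
    have hiff : (∃ (k : K) (hk : k • a = a), S.conjChar k hk (rep o') = rep o) ↔ o = o' := by
      constructor
      · intro h
        rw [← Quotient.out_eq o, ← Quotient.out_eq o']
        exact Quotient.sound h
      · rintro rfl
        exact ⟨1, one_smul _ _, S.conjChar_one _ _⟩
    refine Nat.eq_of_mul_eq_mul_right hUpos ?_
    rw [if_congr hiff rfl rfl] at hc'
    rw [hc, hc', add_mul]
    by_cases h : o = o' <;> simp [h, add_comm]
  let vv : O → IrrCharacter K → ℤ := fun o θ => mult θ (rep o)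
  have hdotZ : ∀ o o' : O, ∑ θ, vv o θ * vv o' θ = (d : ℤ) + if o = o' then 1 else 0 := fun o o' => by
    have := hdot o o'
    simp only [vv]
    split_ifs with h
    · rw [if_pos h] at this; exact_mod_cast this
    · rw [if_neg h] at this; exact_mod_cast this
  obtain ⟨o₀⟩ : Nonempty O := Fintype.card_pos_iff.mp (by omega)
  have h3 : ∃ p q : O, p ≠ o₀ ∧ q ≠ o₀ ∧ p ≠ q := by
    have h : 1 < (Finset.univ.erase o₀).card := by
      rw [Finset.card_erase_of_mem (Finset.mem_univ _), Finset.card_univ]; omega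
    obtain ⟨p, hp, q, hq, hpq⟩ := Finset.one_lt_card.mp h
    exact ⟨p, q, (Finset.mem_erase.mp hp).1, (Finset.mem_erase.mp hq).1, hpq⟩
  obtain ⟨bb, s, g, hs, hginj, hv⟩ := star o₀ h3 vv fun o o' hne => by
    refine root_of_norm_two (w := fun θ => (deg θ : ℝ)) (fun θ => by exact_mod_cast (deg_spec θ).1) ?_ ?_
    · have e : ∀ θ, (vv o θ - vv o' θ) ^ 2 =
          vv o θ * vv o θ - 2 * (vv o θ * vv o' θ) + vv o' θ * vv o' θ := fun θ => by ring
      simp only [e, Finset.sum_add_distrib, Finset.sum_sub_distrib, ← Finset.mul_sum, hdotZ, hne,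
        if_true, if_false]
      ring
    · have h1 := deg_sum (rep o) S
      have h2 := deg_sum (rep o') S
      have e1 : ∑ θ, (vv o θ : ℝ) * deg θ = (U.index : ℝ) := by
        simp only [vv]; rw [← h1]; push_cast; rfl
      have e2 : ∑ θ, (vv o' θ : ℝ) * deg θ = (U.index : ℝ) := by
        simp only [vv]; rw [← h2]; push_cast; rfl
      simp only [Int.cast_sub, sub_mul, Finset.sum_sub_distrib, e1, e2, sub_self]
  -- the common vector vanishes at the distinguished characters
  have hexp : ∀ (o : O) (r : IrrCharacter K → ℤ),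
      ∑ θ, vv o θ * r θ = (∑ θ, bb θ * r θ) + s * r (g o) := fun o r => by
    simp only [hv, add_mul, Finset.sum_add_distrib]
    simp
  have hss : s * s = 1 := by rcases hs with rfl | rfl <;> rfl
  have hnorm : ∀ o, (∑ θ, bb θ * bb θ) + 2 * s * bb (g o) = d := by
    intro o
    have h := hdotZ o o
    rw [hexp o (vv o), if_pos rfl] at h
    have h' : ∑ θ, bb θ * vv o θ = (∑ θ, bb θ * bb θ) + bb (g o) * s := by
      simp only [hv, mul_add, Finset.sum_add_distrib]
      simp
    have h'' : vv o (g o) = bb (g o) + s := by rw [hv, if_pos rfl, mul_one]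
    rw [h', h''] at h
    nlinarith
  have hconst : ∀ o, bb (g o) = bb (g o₀) := fun o => by
    have h1 := hnorm o
    have h2 := hnorm o₀
    rcases hs with rfl | rfl <;> linarith
  have hlow : (Fintype.card O : ℤ) * (bb (g o₀) * bb (g o₀)) ≤ ∑ θ, bb θ * bb θ := by
    calc (Fintype.card O : ℤ) * (bb (g o₀) * bb (g o₀)) = ∑ o : O, bb (g o) * bb (g o) := by
          simp [hconst, Finset.card_univ]
      _ = ∑ θ ∈ Finset.univ.image g, bb θ * bb θ := by
          rw [Finset.sum_image fun x _ y _ h => hginj h]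
      _ ≤ _ := Finset.sum_le_univ_sum_of_nonneg fun θ => mul_self_nonneg _
  obtain ⟨o₁, -, ho₁, -, -⟩ := h3
  have hb0 : 0 ≤ bb (g o₀) := by
    have h := hv o₁ (g o₀)
    rw [if_neg (fun h => ho₁ (hginj h).symm), mul_zero, add_zero] at h
    rw [← h]; exact Int.natCast_nonneg _
  have hr : ∀ φ : IrrCharacter ↥U, ¬ NT R φ → ∀ o : O, mult (g o) φ = mult (g o₀) φ ∧
      Fintype.card O * (mult (g o₀) φ * mult (g o₀) φ) ≤ 2 * d := by
    intro φ hφ
    let r : IrrCharacter K → ℤ := fun θ => mult θ φ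
    have hcross : ∀ o : O, ∑ θ, vv o θ * r θ = d := by
      intro o
      obtain ⟨c, hc, hc'⟩ := S.mackey hb hd φ (rep o)
      have h0 : c = 0 := by
        rw [hc']
        haveI : IsEmpty {k : K // ∃ hk : k • a = a, S.conjChar k hk (rep o) = φ} :=
          ⟨fun ⟨k, hk, e⟩ => hφ (e ▸ S.nt_conjChar hk o.out.2)⟩
        exact Nat.card_of_isEmpty
      rw [h0, zero_add] at hc
      have := Nat.eq_of_mul_eq_mul_right hUpos hc
      simp only [vv, r]
      rw [← this]; push_cast
      exact Finset.sum_congr rfl fun θ _ => mul_comm _ _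
    have hrc : ∀ o : O, r (g o) = r (g o₀) := fun o => by
      have h1 := hcross o
      have h2 := hcross o₀
      rw [hexp] at h1 h2
      rcases hs with rfl | rfl <;> linarith
    intro o
    have hrcN : ∀ o : O, mult (g o) φ = mult (g o₀) φ := fun o => by
      have := hrc o
      simp only [r] at this
      exact_mod_cast this
    refine ⟨hrcN o, ?_⟩
    calc Fintype.card O * (mult (g o₀) φ * mult (g o₀) φ) =
          ∑ o' : O, mult (g o') φ * mult (g o') φ := by simp [hrcN, Finset.card_univ]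
      _ = ∑ θ ∈ Finset.univ.image g, mult θ φ * mult θ φ := by
          rw [Finset.sum_image fun x _ y _ h => hginj h]
      _ ≤ ∑ θ, mult θ φ * mult θ φ :=
          Finset.sum_le_sum_of_subset (Finset.subset_univ _)
      _ ≤ 2 * d := by
          obtain ⟨c, hc, hc'⟩ := S.mackey hb hd φ φ
          have h0 : c ≤ d * Nat.card ↥U := by
            rw [hc', ← hd]
            exact Nat.card_le_card_of_injective (fun x => (⟨x.1, x.2.1⟩ : ↥(stabilizer K a)))
              fun x y h => Subtype.ext (congrArg (fun z : ↥(stabilizer K a) => (z : K)) h)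
          refine Nat.le_of_mul_le_mul_right ?_ hUpos
          rw [hc, mul_assoc, two_mul]
          exact Nat.add_le_add_right h0 _
  -- the exceptional case of a prime `U` of order 31
  have hspec : d = 5 → Nat.card ↥U = 31 → Nat.card ↥R = 31 → Fintype.card O = 6 →
      ∃ e : ℕ, ((deg (g o₀) : ℤ) = 5 * (6 * bb (g o₀) + s) + e) ∧ 6 * (e * e) ≤ 10 ∧
        (∀ φ : IrrCharacter ↥U, ¬ NT R φ → mult (g o₀) φ ≤ e) ∧ deg (g o₀) ∣ 4960 := by
    intro h5 hU hR h6
    have hRU : R = U := Subgroup.eq_of_le_of_card_ge S.R_le (by rw [hU, hR])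
    let o1 : IrrCharacter ↥U := ⟨fun _ => 1, isIrrCharacter_one⟩
    have hone : ∀ φ : IrrCharacter ↥U, ¬ NT R φ → φ = o1 := by
      intro φ hφ
      simp only [NT, not_exists, not_and, not_not] at hφ
      exact Subtype.ext (funext fun u => hφ u (hRU ▸ u.2))
    have ho1 : ¬ NT R o1 := fun ⟨x, _, h⟩ => h rfl
    have hK : deg (g o₀) ∣ 4960 := by
      have h := (deg_spec (g o₀)).2.2
      haveI : IsPretransitive K Γ := ⟨fun x y => by
        obtain ⟨k, rfl⟩ := S.trans x
        obtain ⟨l, rfl⟩ := S.trans y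
        exact ⟨l * k⁻¹, by rw [mul_smul, inv_smul_smul]⟩⟩
      rwa [← (stabilizer K a).card_mul_index, index_stabilizer_of_transitive, S.card_points hb, hd,
        h5, hU] at h
    refine ⟨mult (g o₀) o1, ?_, ?_, fun φ hφ => by rw [hone φ hφ], hK⟩
    · have hsplit : ∑ ψ : IrrCharacter ↥U, mult (g o₀) ψ =
          ∑ p : O × (↥(stabilizer K a) ⧸ U.subgroupOf (stabilizer K a)), mult (g o₀) (F p).1 +
            mult (g o₀) o1 := by
        rw [← Finset.sum_filter_add_sum_filter_not Finset.univ (fun ψ => NT R ψ)]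
        congr 1
        · rw [Fintype.sum_bijective F hF _ (fun ψ => mult (g o₀) ψ.1) fun _ => rfl]
          exact Finset.sum_subtype _ (fun ψ => by simp) _
        · refine Finset.sum_eq_single_of_mem o1 (by simp [ho1]) fun ψ hψ hne => ?_
          exact absurd (hone ψ (Finset.mem_filter.mp hψ).2) hne
      have hFm : ∀ p : O × (↥(stabilizer K a) ⧸ U.subgroupOf (stabilizer K a)),
          mult (g o₀) (F p).1 = mult (g o₀) (rep p.1) := fun p => S.mult_conj _ p.2.out.2 _
      have hQ : Fintype.card (↥(stabilizer K a) ⧸ U.subgroupOf (stabilizer K a)) = 5 := by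
        rw [← Nat.card_eq_fintype_card, ← Subgroup.index, hidx, h5]
      rw [S.deg_eq, hsplit, Finset.sum_congr rfl fun p _ => hFm p, Fintype.sum_prod_type]
      simp only [Finset.sum_const, Finset.card_univ, hQ, smul_eq_mul]
      push_cast
      have hv' : ∀ o : O, (mult (g o₀) (rep o) : ℤ) =
          bb (g o₀) + s * (if o = o₀ then 1 else 0) := fun o => by
        have h := hv o (g o₀)
        simp only [hginj.eq_iff, eq_comm (a := o₀)] at h
        exact h
      simp only [hv', ← Finset.mul_sum, Finset.sum_add_distrib]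
      simp [Finset.card_univ, h6]
      rw [Finset.sum_eq_single o₀] <;> simp +contextual
    · have h := (hr o1 ho1 o₀).2
      rw [h5, h6] at h
      exact h
  have hs1 : s = 1 := by
    rcases hs with h | h
    · exact h
    exfalso
    subst h
    have h1 : (1 : ℤ) ≤ bb (g o₀) := by
      have h := hv o₀ (g o₀)
      rw [if_pos rfl] at h
      have : 0 ≤ vv o₀ (g o₀) := Int.natCast_nonneg _
      linarith
    have h2 := hnorm o₀
    rcases hJcase with hbig | ⟨h5, hU, hR, h6⟩
    · have h3 : (2 : ℤ) * d + 1 ≤ Fintype.card O := by exact_mod_cast hbig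
      have h4 : (2 : ℤ) ≤ d := by exact_mod_cast hd2
      nlinarith [mul_le_mul_of_nonneg_right h3 (mul_self_nonneg (bb (g o₀))),
        mul_le_mul h1 h1 zero_le_one (by linarith)]
    · obtain ⟨e, he, he2, -, hdvd⟩ := hspec h5 hU hR h6
      rw [h5] at h2
      rw [h6] at hlow
      have hb1 : bb (g o₀) = 1 := by
        by_contra hne
        have : (2 : ℤ) ≤ bb (g o₀) := by omega
        push_cast at hlow h2
        nlinarith
      rw [hb1] at he
      have he1 : e ≤ 1 := by nlinarith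
      have hdeg : deg (g o₀) = 25 + e := by omega
      rw [hdeg] at hdvd
      interval_cases e <;> norm_num at hdvd
  subst hs1
  have hb00 : ∀ o, bb (g o) = 0 := by
    intro o
    rw [hconst]
    have h2 := hnorm o₀
    have h3 : (d : ℤ) + 1 ≤ Fintype.card O := by exact_mod_cast hJ
    by_contra hne
    have : 1 ≤ bb (g o₀) := by omega
    nlinarith [mul_le_mul_of_nonneg_right h3 (mul_self_nonneg (bb (g o₀))),
      mul_le_mul this this zero_le_one (by linarith)]
  have hgval : ∀ (o o' : O), mult (g o) (rep o') = if o = o' then 1 else 0 := by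
    intro o o'
    have h := hv o' (g o)
    rw [hb00, zero_add, one_mul] at h
    simp only [vv] at h
    by_cases ho : o = o'
    · rw [if_pos ho]; subst ho; rw [if_pos rfl] at h; exact_mod_cast h
    · rw [if_neg ho]; rw [if_neg (fun e => ho (hginj e))] at h; exact_mod_cast h
  have htriv : ∀ (o : O) (φ : IrrCharacter ↥U), ¬ NT R φ → mult (g o) φ = 0 := by
    intro o φ hφ
    rw [(hr φ hφ o).1]
    by_contra hne
    have h1 := Nat.one_le_iff_ne_zero.mpr hne
    have h := (hr φ hφ o).2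
    rcases hJcase with hbig | ⟨h5, hU, hR, h6⟩
    · have := Nat.mul_le_mul_left (Fintype.card O) (Nat.mul_le_mul h1 h1)
      omega
    · obtain ⟨e, he, he2, hle, hdvd⟩ := hspec h5 hU hR h6
      have := hle φ hφ
      rw [hb00] at he
      have he1 : e ≤ 1 := by nlinarith
      interval_cases e
      · omega
      · have h : deg (g o₀) = 6 := by omega
        rw [h] at hdvd
        norm_num at hdvd
  have hmem : ∀ ψ : IrrCharacter ↥U, mult (g o₀) ψ ≠ 0 →
      ∃ h : NT R ψ, (⟦⟨ψ, h⟩⟧ : O) = o₀ := by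
    intro ψ h
    by_cases hn : NT R ψ
    · refine ⟨hn, ?_⟩
      rw [hmk _ ψ hn, hgval] at h
      by_contra hne
      exact h (if_neg (Ne.symm hne))
    · exact absurd (htriv o₀ ψ hn) h
  refine ⟨g o₀, ?_, ?_, fun ψ h => (hmem ψ h).1, ?_, ?_⟩
  · rw [S.deg_eq]
    have hle : ∀ ψ, mult (g o₀) ψ ≤ if mult (g o₀) ψ ≠ 0 then 1 else 0 := fun ψ => by
      split_ifs with h
      · obtain ⟨hn, e⟩ := hmem ψ h
        rw [hmk _ ψ hn, hgval, e, if_pos rfl]
      · omega
    refine (Finset.sum_le_sum fun ψ _ => hle ψ).trans ?_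
    rw [Finset.sum_boole, Nat.cast_id]
    refine le_trans (Finset.card_le_card (t := Finset.univ.image fun q :
        ↥(stabilizer K a) ⧸ U.subgroupOf (stabilizer K a) =>
        S.conjChar (q.out : ↥(stabilizer K a)) q.out.2 (rep o₀)) ?_)
      (Finset.card_image_le.trans (by rw [Finset.card_univ, ← Nat.card_eq_fintype_card, ← Subgroup.index, hidx]))
    intro ψ hψ
    obtain ⟨hn, e⟩ := hmem ψ (Finset.mem_filter.mp hψ).2
    obtain ⟨k, hk, e'⟩ := S.setoid.iseqv.symm (Quotient.mk_out (s := S.setoid) ⟨ψ, hn⟩)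
    rw [show (⟦⟨ψ, hn⟩⟧ : O) = o₀ from e] at e'
    exact Finset.mem_image.mpr ⟨((⟨k, hk⟩ : ↥(stabilizer K a)) : _ ⧸ U.subgroupOf (stabilizer K a)),
      Finset.mem_univ _, (S.conjChar_coset hk _ rfl).trans e'⟩
  · intro ψ
    by_cases h : mult (g o₀) ψ = 0
    · omega
    · obtain ⟨hn, e⟩ := hmem ψ h
      rw [hmk _ ψ hn, hgval, e, if_pos rfl]
  · intro ψ φ h h'
    obtain ⟨hn, e⟩ := hmem ψ h
    obtain ⟨hn', e'⟩ := hmem φ h'
    exact Quotient.exact (e.trans e'.symm)
  · intro θ
    by_cases hθ : θ ∈ Set.range g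
    · obtain ⟨o, rfl⟩ := hθ
      exact Or.inl fun ψ hn => htriv o ψ hn
    have hc : ∀ o o' : O, mult θ (rep o) = mult θ (rep o') := by
      intro o o'
      have h1 := hv o θ
      have h2 := hv o' θ
      rw [if_neg (fun h => hθ ⟨o, h.symm⟩), mul_zero, add_zero] at h1
      rw [if_neg (fun h => hθ ⟨o', h.symm⟩), mul_zero, add_zero] at h2
      simp only [vv] at h1 h2
      exact_mod_cast h1.trans h2.symm
    by_cases hz : mult θ (rep o₀) = 0
    · exact Or.inr (Or.inl fun ψ hn => by rw [hmk θ ψ hn, hc _ o₀, hz])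
    refine Or.inr (Or.inr ?_)
    have h1 : Nat.card {ψ : IrrCharacter ↥U // NT R ψ} ≤ deg θ := by
      rw [S.deg_eq, Nat.card_eq_fintype_card, Fintype.card_subtype, Finset.card_eq_sum_ones]
      refine (Finset.sum_le_sum fun ψ hψ => ?_).trans
        (Finset.sum_le_sum_of_subset (f := mult θ) (Finset.subset_univ _))
      rw [hmk θ ψ (Finset.mem_filter.mp hψ).2, hc _ o₀]
      omega
    refine lt_of_lt_of_le ?_ h1
    rw [hcnt]
    exact Nat.mul_lt_mul_of_pos_right hJ (by omega)

/-- The group has a nontrivial abelian normal subgroup. -/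
theorem exists_abelian_normal [Finite Γ] (S : Setting K a U R) (hb : ∃ b : Γ, b ≠ a) {d : ℕ}
    (hd2 : 2 ≤ d) (hd : Nat.card ↥(stabilizer K a) = d * Nat.card ↥U)
    (hcase : (2 * d * d + 1) * Nat.card ↥R + Nat.card ↥U ≤ Nat.card ↥U * Nat.card ↥R ∨
      (d = 5 ∧ Nat.card ↥U = 31 ∧ Nat.card ↥R = 31)) :
    ∃ Y : Subgroup K, Y.Normal ∧ Y ≠ ⊥ ∧ ∀ x ∈ Y, ∀ y ∈ Y, x * y = y * x := by
  classical
  by_contra hno
  push Not at hno
  have hno' : ∀ Y : Subgroup K, Y.Normal → (∀ x ∈ Y, ∀ y ∈ Y, x * y = y * x) → Y = ⊥ := by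
    intro Y hY hab
    by_contra hne
    obtain ⟨x, hx, y, hy, hxy⟩ := hno Y hY hne
    exact hxy (hab x hx y hy)
  obtain ⟨χ, hdeg, hm1, hmNT, horb, htri⟩ := S.exists_char hb hd2 hd hcase
  -- the intersection of the nontrivial normal subgroups
  obtain ⟨ρ₀, hρ₀, hρ₁⟩ : ∃ x ∈ R, x ≠ 1 := R.bot_or_exists_ne_one.resolve_left fun h => by
    have := S.R_prime
    rw [h, Subgroup.card_bot] at this
    exact Nat.not_prime_one this
  set M : Subgroup K := ⨅ Q : {Q : Subgroup K // Q.Normal ∧ Q ≠ ⊥}, Q.1 with hM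
  have hMn : M.Normal := Subgroup.normal_iInf_normal fun Q => Q.2.1
  have hRM : R ≤ M := le_iInf fun Q => S.R_le_normal hb hno' Q.2.1 Q.2.2
  have hMmin : ∀ Q : Subgroup K, Q.Normal → Q ≠ ⊥ → M ≤ Q := fun Q h1 h2 =>
    iInf_le (fun Q : {Q : Subgroup K // Q.Normal ∧ Q ≠ ⊥} => Q.1) ⟨Q, h1, h2⟩
  have hperf : ⁅M, M⁆ = M := by
    refine le_antisymm (commutator_le_self M) (hMmin _ inferInstance fun h => ?_)
    have hab : ∀ x ∈ M, ∀ y ∈ M, x * y = y * x := fun x hx y hy =>
      commutatorElement_eq_one_iff_mul_comm.mp (mem_bot.mp (h ▸ commutator_mem_commutator hx hy))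
    exact hρ₁ (S.eq_one_of_abelian hMn hab (hRM hρ₀) (S.U_le (S.R_le hρ₀)))
  -- the restriction to `M` has large norm
  haveI : Fintype ↥M := Fintype.ofFinite _
  haveI : Fintype ↥R := Fintype.ofFinite _
  let φ : K → ℂ := fun k => (χ : K → ℂ) k * conj ((χ : K → ℂ) k)
  have hφ : IsCharacter K φ :=
    CharInduce.IsChar.mul (IsIrr.isCharacter χ.2) (CharInduce.IsChar.conj (IsIrr.isCharacter χ.2))
  obtain ⟨n, -, hnexp⟩ := IsChar.exists_nat_mult hφ
  let one' : ↥U → ℂ := fun _ => 1
  let o1 : IrrCharacter ↥U := ⟨one', isIrrCharacter_one⟩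
  have ho1 : ¬ NT R o1 := fun ⟨x, _, h⟩ => h rfl
  have hM1 : ∀ θ : IrrCharacter K, ∃ t : ℕ,
      classInner (fun m : ↥M => (θ : K → ℂ) m) (fun _ => 1) = t :=
    fun θ => classInner_isChar_nat (CharInduce.IsChar.res (IsIrr.isCharacter θ.2) M)
      CharInduce.IsChar.one
  choose t ht using hM1
  have hres : ∀ (H : Subgroup K) [Fintype ↥H],
      classInner (fun h : ↥H => (χ : K → ℂ) h) (fun h : ↥H => (χ : K → ℂ) h) =
        ∑ θ : IrrCharacter K, (n θ : ℂ) * classInner (fun h : ↥H => (θ : K → ℂ) h) (fun _ => 1) := by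
    intro H _
    have e : classInner (fun h : ↥H => (χ : K → ℂ) h) (fun h : ↥H => (χ : K → ℂ) h) =
        classInner (fun h : ↥H => φ h) (fun _ => 1) := by
      simp [classInner_def, φ]
    rw [e, hnexp]
    simp only [classInner_def, Finset.sum_apply, Pi.smul_apply, smul_eq_mul, map_one, mul_one,
      Finset.mul_sum]
    rw [Finset.sum_comm]
    exact Finset.sum_congr rfl fun θ _ => Finset.sum_congr rfl fun h _ => by ring
  have hφ1 : ∑ θ, n θ * deg θ = deg χ * deg χ := by
    have h := congrFun hnexp 1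
    simp only [φ, (deg_spec _).2.1, map_natCast, Finset.sum_apply, Pi.smul_apply, smul_eq_mul] at h
    exact_mod_cast h.symm
  have hnormU : ∑ θ, n θ * mult θ o1 = deg χ := by
    have h1 : classInner (fun h : ↥U => (χ : K → ℂ) h) (fun h : ↥U => (χ : K → ℂ) h) =
        ((∑ ψ : IrrCharacter ↥U, mult χ ψ * mult χ ψ : ℕ) : ℂ) := by
      rw [classInner_eq_sum (IsChar.isClassFunction (CharInduce.IsChar.res (IsIrr.isCharacter χ.2) U))]
      simp [mult_spec]
    have h2 : ∑ ψ : IrrCharacter ↥U, mult χ ψ * mult χ ψ = deg χ := by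
      rw [S.deg_eq]
      exact Finset.sum_congr rfl fun ψ _ => by
        have := hm1 ψ
        interval_cases mult χ ψ <;> rfl
    have h := hres U
    rw [h1, h2] at h
    have hm : ∀ θ : IrrCharacter K,
        classInner (fun h : ↥U => (θ : K → ℂ) h) (fun _ => 1) = (mult θ o1 : ℂ) :=
      fun θ => mult_spec θ o1
    simp only [hm] at h
    exact_mod_cast h.symm
  have hcomp : ∀ θ, n θ * mult θ o1 ≤ n θ * t θ := by
    intro θ
    rcases Nat.eq_zero_or_pos (n θ) with h | h
    · simp [h]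
    refine Nat.mul_le_mul_left _ ?_
    rcases htri θ with h' | h' | h'
    · rw [h' o1 ho1]; exact Nat.zero_le _
    · -- `R` is in the kernel
      obtain ⟨Q, hQn, hQmem, -⟩ := IsChar.exists_kernel (IsIrr.isCharacter θ.2)
      have hRQ : ∀ x : ↥U, (x : K) ∈ R → (θ : K → ℂ) x = (θ : K → ℂ) 1 := by
        intro x hx
        rw [res_eq θ x, show ((1 : K)) = ((1 : ↥U) : K) from rfl, res_eq θ 1]
        refine Finset.sum_congr rfl fun ψ _ => ?_
        by_cases hn : NT R ψ
        · simp [h' ψ hn]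
        · simp only [NT, not_exists, not_and, not_not] at hn
          rw [hn x hx, S.irr_one]
      have hMQ : M ≤ Q := hMmin Q hQn fun hbot => hρ₁ (by
        have := (hQmem ρ₀).mpr (hRQ ⟨ρ₀, S.R_le hρ₀⟩ hρ₀)
        rwa [hbot, mem_bot] at this)
      have e : t θ = deg θ := by
        have h := ht θ
        have e' : ∀ m : ↥M, (θ : K → ℂ) m = (deg θ : ℂ) := fun m => by
          rw [(hQmem _).mp (hMQ m.2), (deg_spec θ).2.1]
        simp only [classInner_def, e', map_one, mul_one, Finset.sum_const, Finset.card_univ,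
          nsmul_eq_mul, ← Nat.card_eq_fintype_card] at h
        rw [← mul_assoc, inv_mul_cancel₀ (by exact_mod_cast Nat.card_pos.ne'), one_mul] at h
        exact_mod_cast h.symm
      rw [e, S.deg_eq]
      exact Finset.single_le_sum (f := fun ψ => mult θ ψ) (fun _ _ => Nat.zero_le _)
        (Finset.mem_univ o1)
    · exfalso
      have h1 : n θ * deg θ ≤ ∑ θ', n θ' * deg θ' :=
        Finset.single_le_sum (f := fun θ' => n θ' * deg θ') (fun _ _ => Nat.zero_le _)
          (Finset.mem_univ θ)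
      have h2 := Nat.le_mul_of_pos_left (deg θ) h
      have := Nat.mul_le_mul hdeg hdeg
      omega
  obtain ⟨q, hqs, hqexp⟩ := IsChar.exists_nat_mult (CharInduce.IsChar.res (IsIrr.isCharacter χ.2) M)
  have hq2 : deg χ ≤ ∑ τ, q τ * q τ := by
    have h1 := classInner_eq_sum (ψ := fun m : ↥M => (χ : K → ℂ) m)
      (IsChar.isClassFunction (CharInduce.IsChar.res (IsIrr.isCharacter χ.2) M))
    simp only [hqs, map_natCast] at h1
    rw [hres M] at h1
    simp only [ht] at h1
    have : ∑ θ, n θ * t θ = ∑ τ, q τ * q τ := by exact_mod_cast h1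
    rw [← this, ← hnormU]
    exact Finset.sum_le_sum fun θ _ => hcomp θ
  -- the restriction to `R` is multiplicity free
  let χR : ↥R → ℂ := fun x => (χ : K → ℂ) x
  have hRmult : ∀ lam : IrrCharacter ↥R, ∃ c : ℕ,
      classInner χR (lam : ↥R → ℂ) = c ∧ c ≤ 1 ∧ ((lam : ↥R → ℂ) = (fun _ => 1) → c = 0) := by
    intro lam
    let rr : IrrCharacter ↥U → IrrCharacter ↥R := fun ψ =>
      ⟨fun x => (ψ : ↥U → ℂ) ⟨x, S.R_le x.2⟩, by
        obtain ⟨l, hl⟩ := S.irr_hom ψ
        have := CharInduce.isIrrCharacter_hom (l.comp (Subgroup.inclusion S.R_le))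
        convert this using 1
        exact funext fun x => hl _⟩
    have h : classInner χR (lam : ↥R → ℂ) =
        ∑ ψ : IrrCharacter ↥U, (mult χ ψ : ℂ) * classInner (rr ψ : ↥R → ℂ) (lam : ↥R → ℂ) := by
      simp only [classInner_def, Finset.mul_sum]
      rw [Finset.sum_comm]
      refine Finset.sum_congr rfl fun x _ => ?_
      rw [show χR x = ∑ ψ : IrrCharacter ↥U, (mult χ ψ : ℂ) * (rr ψ : ↥R → ℂ) x from
        res_eq χ ⟨x, S.R_le x.2⟩, Finset.sum_mul, Finset.mul_sum]
      exact Finset.sum_congr rfl fun ψ _ => by ring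
    simp only [classInner_irrCharacter] at h
    refine ⟨∑ ψ : IrrCharacter ↥U, if rr ψ = lam then mult χ ψ else 0, ?_, ?_, ?_⟩
    · rw [h]; push_cast
      exact Finset.sum_congr rfl fun ψ _ => by split_ifs <;> simp
    · by_contra hc
      push Not at hc
      obtain ⟨ψ, -, hψ⟩ := Finset.exists_ne_zero_of_sum_ne_zero (Nat.ne_zero_of_lt hc)
      rw [ne_eq, ite_eq_right_iff, not_forall] at hψ
      obtain ⟨hψ1, hψ2⟩ := hψ
      rw [Finset.sum_eq_single ψ] at hc
      · rw [if_pos hψ1] at hc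
        exact absurd (hm1 ψ) (by omega)
      · intro ψ' _ hne
        by_contra hψ'
        rw [ite_eq_right_iff, not_forall] at hψ'
        obtain ⟨h1', h2'⟩ := hψ'
        obtain ⟨k, hk, e⟩ := horb ψ' ψ h2' hψ2
        have hkU : k ∈ U := S.nt_stab (hmNT ψ hψ2) hk fun u hu => by
          have := congrFun (congrArg Subtype.val (h1'.trans hψ1.symm)) ⟨u, hu⟩
          rw [← e] at this
          exact this
        refine hne (e.symm.trans (Subtype.ext (funext fun u => congrArg (ψ : ↥U → ℂ) (Subtype.ext ?_))))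
        show k * (u : K) * k⁻¹ = u
        rw [S.U_comm k hkU u u.2, mul_inv_cancel_right]
      · simp
    · intro hlam
      refine Finset.sum_eq_zero fun ψ _ => ?_
      rw [ite_eq_right_iff]
      intro he
      by_contra hne
      obtain ⟨x, hx, hx'⟩ := hmNT ψ hne
      have := congrFun (congrArg Subtype.val he) ⟨x, hx⟩
      rw [hlam] at this
      exact hx' this
  have hR' : ∀ (τ : IrrCharacter ↥M), IsCharacter ↥R (fun x : ↥R => (τ : ↥M → ℂ) ⟨x, hRM x.2⟩) :=
    fun τ => CharInduce.IsChar.comp (IsIrr.isCharacter τ.2) (Subgroup.inclusion hRM)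
  have hq1 : ∀ τ, q τ ≤ 1 := by
    intro τ
    obtain ⟨dt, hdt, hdt1, -, -⟩ := IsIrr.degree_dvd τ.2
    obtain ⟨m', hm', hmexp⟩ := IsChar.exists_nat_mult (hR' τ)
    obtain ⟨lam, hlam⟩ : ∃ lam, m' lam ≠ 0 := by
      by_contra! hall
      have := congrFun hmexp 1
      simp [hall] at this
      rw [show ((⟨1, hRM R.one_mem⟩ : ↥M)) = 1 from rfl, hdt1] at this
      exact hdt.ne' (by exact_mod_cast this)
    obtain ⟨c, hc, hc1, -⟩ := hRmult lam
    have hsum : classInner χR (lam : ↥R → ℂ) = ∑ τ' : IrrCharacter ↥M, (q τ' : ℂ) *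
        classInner (fun x : ↥R => (τ' : ↥M → ℂ) ⟨x, hRM x.2⟩) (lam : ↥R → ℂ) := by
      simp only [classInner_def, Finset.mul_sum]
      rw [Finset.sum_comm]
      refine Finset.sum_congr rfl fun x _ => ?_
      rw [show χR x = ∑ τ' : IrrCharacter ↥M, (q τ' : ℂ) * (τ' : ↥M → ℂ) ⟨x, hRM x.2⟩ by
        have := congrFun hqexp ⟨x, hRM x.2⟩
        simpa [Finset.sum_apply] using this, Finset.sum_mul, Finset.mul_sum]
      exact Finset.sum_congr rfl fun _ _ => by ring
    choose mm hmm using fun τ' : IrrCharacter ↥M =>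
      classInner_isChar_nat (hR' τ') (IsIrr.isCharacter lam.2)
    simp only [hmm] at hsum
    rw [hc] at hsum
    have h' : c = ∑ τ', q τ' * mm τ' := by exact_mod_cast hsum
    have h1 : q τ * mm τ ≤ c :=
      h' ▸ Finset.single_le_sum (f := fun τ' => q τ' * mm τ') (fun _ _ => Nat.zero_le _)
        (Finset.mem_univ τ)
    have h2 : mm τ = m' lam := by exact_mod_cast (hmm τ).symm.trans (hm' lam)
    have := Nat.le_mul_of_pos_right (q τ) (Nat.pos_of_ne_zero (h2 ▸ hlam))
    omega
  choose dg hdgpos hdg1 _ _ using fun τ : IrrCharacter ↥M => IsIrr.degree_dvd τ.2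
  have hqdeg : ∑ τ, q τ * dg τ = deg χ := by
    have h := congrFun hqexp 1
    simp only [Finset.sum_apply, Pi.smul_apply, smul_eq_mul, hdg1, OneMemClass.coe_one,
      (deg_spec χ).2.1] at h
    exact_mod_cast h.symm
  have hlin : ∀ τ, q τ ≠ 0 → dg τ = 1 := by
    intro τ hτ
    have hle : ∀ τ', q τ' * q τ' ≤ q τ' * dg τ' := fun τ' => by
      refine Nat.mul_le_mul_left _ ((hq1 τ').trans (hdgpos τ'))
    have heq : ∑ τ', q τ' * q τ' = ∑ τ', q τ' * dg τ' :=
      le_antisymm (Finset.sum_le_sum fun τ' _ => hle τ') (hqdeg ▸ hq2)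
    have h := (Finset.sum_eq_sum_iff_of_le fun τ' _ => hle τ').mp heq τ (Finset.mem_univ τ)
    have h1 : q τ = 1 := le_antisymm (hq1 τ) (Nat.one_le_iff_ne_zero.mpr hτ)
    rw [h1] at h
    omega
  -- linear characters of a perfect group are trivial
  have hχR : ∀ x : ↥R, χR x = (deg χ : ℂ) := by
    intro x
    rw [← (deg_spec χ).2.1]
    have e1 := congrFun hqexp ⟨x, hRM x.2⟩
    have e2 := congrFun hqexp 1
    simp only [Finset.sum_apply, Pi.smul_apply, smul_eq_mul, OneMemClass.coe_one] at e1 e2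
    show (χ : K → ℂ) x = _
    rw [e1, e2]
    refine Finset.sum_congr rfl fun τ _ => ?_
    rcases eq_or_ne (q τ) 0 with h | h
    · simp [h]
    have h1 : (τ : ↥M → ℂ) 1 = 1 := by rw [hdg1, hlin τ h, Nat.cast_one]
    obtain ⟨l, hl⟩ := CharInduce.IsChar.exists_hom_of_degree_one (IsIrr.isCharacter τ.2) h1
    have hcomm : commutator ↥M = ⊤ := by
      refine Subgroup.map_injective M.subtype_injective ?_
      rw [Subgroup.map_subtype_commutator, hperf, ← MonoidHom.range_eq_map, Subgroup.range_subtype]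
    have hker : commutator ↥M ≤ l.ker := Abelianization.commutator_subset_ker l
    rw [hcomm] at hker
    rw [hl, hl, map_one, show l ⟨x, hRM x.2⟩ = 1 from hker (mem_top _)]
  obtain ⟨c, hc, -, hc0⟩ := hRmult ⟨fun _ => 1, isIrrCharacter_one⟩
  rw [hc0 rfl] at hc
  simp only [classInner_def, hχR, map_one, mul_one, Finset.sum_const, Finset.card_univ,
    nsmul_eq_mul, ← Nat.card_eq_fintype_card] at hc
  rw [← mul_assoc, inv_mul_cancel₀ (by exact_mod_cast Nat.card_pos.ne'), one_mul] at hc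
  exact (deg_spec χ).1.ne' (by exact_mod_cast hc)

end Chars

end Setting

end Cfsg.Agent.H53.Exotic
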