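import Cfsg.Agent.H32.SharplyTwo

/-!
Transitive groups with a one point stabiliser normalising an abelian subgroup that is regular on the
other points: normal subgroups are transitive, and either they meet the stabiliser outside the
abelian subgroup or there is an abelian normal transitive subgroup.
-/

set_option autoImplicit false
set_option linter.style.haveILetI false
set_option linter.unusedSectionVars false

namespace Cfsg.Agent.H53.Exotic

open MulAction Subgroup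

universe u v

variable {K : Type u} [Group K] {Γ : Type v} [MulAction K Γ] {a : Γ} {U R : Subgroup K}

/-- `U` is an abelian normal subgroup of the stabiliser of `a`, regular on the other points, and
`R ≤ U` has prime order, is normal in the stabiliser and has centraliser `U` there. -/
structure Setting (K : Type u) [Group K] {Γ : Type v} [MulAction K Γ] (a : Γ) (U R : Subgroup K) :
    Prop where
  trans : ∀ x : Γ, ∃ k : K, k • a = x
  faithful : ∀ k : K, (∀ x : Γ, k • x = x) → k = 1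
  U_le : U ≤ stabilizer K a
  U_norm : ∀ k ∈ stabilizer K a, ∀ u ∈ U, k * u * k⁻¹ ∈ U
  U_comm : ∀ u ∈ U, ∀ v ∈ U, u * v = v * u
  U_trans : ∀ x y : Γ, x ≠ a → y ≠ a → ∃ u ∈ U, u • x = y
  U_free : ∀ u ∈ U, ∀ x : Γ, x ≠ a → u • x = x → u = 1
  R_le : R ≤ U
  R_norm : ∀ k ∈ stabilizer K a, ∀ x ∈ R, k * x * k⁻¹ ∈ R
  R_prime : (Nat.card R).Prime
  R_cent : ∀ k ∈ stabilizer K a, (∀ x ∈ R, k * x = x * k) → k ∈ U

namespace Setting

/-- A nontrivial normal subgroup is transitive. -/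
theorem normal_trans (S : Setting K a U R) {Q : Subgroup K} (hn : Q.Normal) (hQ : Q ≠ ⊥) (x : Γ) :
    ∃ q ∈ Q, q • a = x := by
  rcases eq_or_ne x a with rfl | hx
  · exact ⟨1, Q.one_mem, one_smul _ _⟩
  obtain ⟨q, hq, hqa⟩ : ∃ q ∈ Q, q • a ≠ a := by
    by_contra! hall
    refine hQ ((Subgroup.eq_bot_iff_forall Q).mpr fun q hq => S.faithful q fun y => ?_)
    obtain ⟨k, rfl⟩ := S.trans y
    have h := hall _ (hn.conj_mem q hq k⁻¹)
    rw [mul_smul, mul_smul, inv_inv, inv_smul_eq_iff] at h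
    exact h
  obtain ⟨u, hu, hux⟩ := S.U_trans _ x hqa hx
  refine ⟨u * q * u⁻¹, hn.conj_mem q hq u, ?_⟩
  rw [mul_smul, mul_smul, show u⁻¹ • a = a from S.U_le (U.inv_mem hu), hux]

/-- An abelian normal subgroup meets the stabiliser trivially. -/
theorem eq_one_of_abelian (S : Setting K a U R) {Q : Subgroup K} (hn : Q.Normal)
    (hab : ∀ x ∈ Q, ∀ y ∈ Q, x * y = y * x) {q : K} (hq : q ∈ Q) (hqa : q • a = a) : q = 1 := by
  refine S.faithful q fun x => ?_
  rcases eq_or_ne Q ⊥ with h | h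
  · rw [h, mem_bot] at hq
    rw [hq, one_smul]
  obtain ⟨p, hp, rfl⟩ := S.normal_trans hn h x
  rw [← mul_smul, hab q hq p hp, mul_smul, hqa]

/-- If a nontrivial normal subgroup meets the stabiliser only inside `U`, some nontrivial abelian
subgroup is normal. -/
theorem false_of_meet_le [Finite Γ] (S : Setting K a U R) (hb : ∃ b : Γ, b ≠ a)
    (hno : ∀ Y : Subgroup K, Y.Normal → (∀ x ∈ Y, ∀ y ∈ Y, x * y = y * x) → Y = ⊥)
    {Q : Subgroup K} (hn : Q.Normal) (hQ : Q ≠ ⊥) (hex : ∀ x ∈ Q, x • a = a → x ∈ U) : False := by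
  classical
  haveI := Fintype.ofFinite Γ
  obtain ⟨b, hb⟩ := hb
  -- the product with `U` acts sharply two-transitively
  set M : Subgroup K := Q ⊔ U with hM
  have hMset : ∀ m ∈ M, ∃ q ∈ Q, ∃ u ∈ U, m = q * u := by
    intro m hm
    rw [hM, ← SetLike.mem_coe, Subgroup.coe_mul_of_right_le_normalizer_left Q U
      (fun x _ => mem_normalizer_iff.mpr fun h => ⟨fun hh => hn.conj_mem h hh x, fun hh => by
        simpa [mul_assoc] using hn.conj_mem _ hh x⁻¹⟩)] at hm
    obtain ⟨q, hq, u, hu, rfl⟩ := hm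
    exact ⟨q, hq, u, hu, rfl⟩
  have hMa : ∀ m ∈ M, m • a = a → m ∈ U := by
    intro m hm hma
    obtain ⟨q, hq, u, hu, rfl⟩ := hMset m hm
    rw [mul_smul, show u • a = a from S.U_le hu] at hma
    exact U.mul_mem (hex q hq hma) hu
  have hMn : M.Normal := ⟨fun m hm k => by
    obtain ⟨q, hq, hqa⟩ := S.normal_trans hn hQ (k • a)
    obtain ⟨h, hh, rfl⟩ : ∃ h, h • a = a ∧ k = q * h :=
      ⟨q⁻¹ * k, by rw [mul_smul, ← hqa, inv_smul_smul], by rw [mul_inv_cancel_left]⟩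
    obtain ⟨q', hq', u, hu, rfl⟩ := hMset m hm
    have e : q * h * (q' * u) * (q * h)⁻¹ = q * (h * q' * h⁻¹) * (h * u * h⁻¹) * q⁻¹ := by group
    rw [e]
    exact M.mul_mem (M.mul_mem (M.mul_mem (mem_sup_left hq) (mem_sup_left (hn.conj_mem q' hq' h)))
      (mem_sup_right (S.U_norm h hh u hu))) (mem_sup_left (Q.inv_mem hq))⟩
  let f : K →* Equiv.Perm Γ := MulAction.toPermHom K Γ
  let P : Subgroup (Equiv.Perm Γ) := M.map f
  have hsmul : ∀ (p : P) (x : Γ), p • x = (p : Equiv.Perm Γ) x := fun _ _ => rfl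
  have hfree : ∀ m ∈ M, m • a = a → m • b = b → m = 1 := fun m hm h1 h2 =>
    S.U_free m (hMa m hm h1) b hb h2
  haveI hP2 : IsMultiplyPretransitive P Γ 2 := by
    rw [is_two_pretransitive_iff]
    intro x y x' y' hxy hxy'
    have key : ∀ x y : Γ, x ≠ y → ∃ m ∈ M, m • a = x ∧ m • b = y := by
      intro x y hxy
      obtain ⟨q, hq, hqx⟩ := S.normal_trans hn hQ x
      obtain ⟨u, hu, huy⟩ := S.U_trans b (q⁻¹ • y) hb fun h => hxy (by
        rw [← hqx, ← inv_smul_eq_iff.mp h])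
      exact ⟨q * u, M.mul_mem (mem_sup_left hq) (mem_sup_right hu),
        by rw [mul_smul, show u • a = a from S.U_le hu, hqx],
        by rw [mul_smul, huy, smul_inv_smul]⟩
    obtain ⟨m, hm, h1, h2⟩ := key x y hxy
    obtain ⟨m', hm', h1', h2'⟩ := key x' y' hxy'
    exact ⟨⟨f (m' * m⁻¹), mem_map_of_mem _ (M.mul_mem hm' (M.inv_mem hm))⟩,
      by show (m' * m⁻¹) • x = x'; rw [mul_smul, ← h1, inv_smul_smul, h1'],
      by show (m' * m⁻¹) • y = y'; rw [mul_smul, ← h2, inv_smul_smul, h2']⟩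
  have hab : a ≠ b := hb.symm
  have hsharp : ∀ x : Fin 2 ↪ Γ, stabilizer P x = ⊥ := by
    intro x
    rw [eq_bot_iff]
    rintro ⟨p, hp⟩ hfix
    obtain ⟨m, hm, rfl⟩ := hp
    rw [mem_stabilizer_iff] at hfix
    have hfx : ∀ i, m • x i = x i := fun i => DFunLike.congr_fun hfix i
    obtain ⟨q, hq, hqx⟩ := S.normal_trans hn hQ (x 0)
    obtain ⟨u, hu, huy⟩ := S.U_trans b (q⁻¹ • x 1) hb fun h =>
      x.injective.ne (by decide : (0 : Fin 2) ≠ 1) (by rw [← hqx, ← inv_smul_eq_iff.mp h])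
    set g := q * u with hg
    have hg0 : g • a = x 0 := by rw [hg, mul_smul, show u • a = a from S.U_le hu, hqx]
    have hg1 : g • b = x 1 := by rw [hg, mul_smul, huy, smul_inv_smul]
    have h1 : g⁻¹ * m * g = 1 := hfree _ (by simpa using hMn.conj_mem m hm g⁻¹)
      (by rw [mul_smul, mul_smul, hg0, hfx, ← hg0, inv_smul_smul])
      (by rw [mul_smul, mul_smul, hg1, hfx, ← hg1, inv_smul_smul])
    have : m = 1 := by
      calc m = g * (g⁻¹ * m * g) * g⁻¹ := by group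
        _ = 1 := by rw [h1, mul_one, mul_inv_cancel]
    exact mem_bot.mpr (Subtype.ext (show f m = 1 by rw [this, map_one]))
  have h2 : 2 ≤ Fintype.card Γ := Fintype.one_lt_card_iff.mpr ⟨a, b, hab⟩
  obtain ⟨C, p, j, -, hp, hj, -, hCcard, hCab, -, -, -, hCmem⟩ :=
    Cfsg.Agent.H32.exists_sharply_two_kernel P hsharp h2
  let Y : Subgroup K := M ⊓ (C.map P.subtype).comap f
  have hfinj : Function.Injective f := (injective_iff_map_eq_one f).mpr fun k hk =>
    S.faithful k fun x => show f k x = x by rw [hk]; rfl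
  have hY : ∀ k, k ∈ Y ↔ k ∈ M ∧ (k = 1 ∨ ∀ x : Γ, k • x ≠ x) := by
    intro k
    show k ∈ M ∧ f k ∈ C.map P.subtype ↔ _
    refine and_congr_right fun hk => ?_
    have : f k ∈ C.map P.subtype ↔ (⟨f k, mem_map_of_mem _ hk⟩ : P) ∈ C :=
      ⟨fun ⟨z, hz, he⟩ => by
        have : z = ⟨f k, mem_map_of_mem _ hk⟩ := Subtype.ext he
        exact this ▸ hz, fun h => ⟨_, h, rfl⟩⟩
    rw [this, hCmem]
    refine or_congr ⟨fun h => hfinj ((congrArg Subtype.val h).trans (map_one f).symm),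
      fun h => Subtype.ext (show f k = 1 by rw [h, map_one])⟩ Iff.rfl
  have hYn : Y.Normal := ⟨fun k hk g => by
    rw [hY] at hk ⊢
    refine ⟨hMn.conj_mem k hk.1 g, hk.2.imp (fun h => by rw [h, mul_one, mul_inv_cancel]) ?_⟩
    intro h x hx
    rw [mul_smul, mul_smul] at hx
    exact h (g⁻¹ • x) (eq_inv_smul_iff.mpr hx)⟩
  have hYab : ∀ x ∈ Y, ∀ y ∈ Y, x * y = y * x := by
    intro x hx y hy
    obtain ⟨-, cx, hcx, hex⟩ := hx
    obtain ⟨-, cy, hcy, hey⟩ := hy
    refine hfinj ?_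
    rw [map_mul, map_mul, ← hex, ← hey, ← map_mul, ← map_mul]
    exact congrArg P.subtype (congrArg Subtype.val (hCab.is_comm.comm ⟨cx, hcx⟩ ⟨cy, hcy⟩))
  have hYbot := hno Y hYn hYab
  obtain ⟨c, hc, hc1⟩ : ∃ c ∈ C, c ≠ 1 := C.bot_or_exists_ne_one.resolve_left fun h => by
    rw [h, Subgroup.card_bot] at hCcard
    exact absurd hCcard (Nat.one_lt_pow (by omega) hp.one_lt).ne
  obtain ⟨m, hm, hme⟩ := c.2
  have hmY : m ∈ Y := ⟨hm, c, hc, hme.symm⟩
  rw [hYbot, mem_bot] at hmY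
  exact hc1 (Subtype.ext (show (c : Equiv.Perm Γ) = 1 by rw [← hme, hmY, map_one]))

/-- A nontrivial normal subgroup contains `R`, unless some nontrivial abelian subgroup is normal. -/
theorem R_le_normal [Finite Γ] (S : Setting K a U R) (hb : ∃ b : Γ, b ≠ a)
    (hno : ∀ Y : Subgroup K, Y.Normal → (∀ x ∈ Y, ∀ y ∈ Y, x * y = y * x) → Y = ⊥)
    {Q : Subgroup K} (hn : Q.Normal) (hQ : Q ≠ ⊥) : R ≤ Q := by
  by_cases hex : ∃ x ∈ Q, x • a = a ∧ x ∉ U
  · obtain ⟨x, hxQ, hxa, hxU⟩ := hex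
    obtain ⟨ρ, hρ, hne⟩ : ∃ ρ ∈ R, x * ρ ≠ ρ * x := by
      by_contra! hall
      exact hxU (S.R_cent x hxa hall)
    have hc : x * ρ * x⁻¹ * ρ⁻¹ ∈ Q ⊓ R :=
      ⟨by
        rw [show x * ρ * x⁻¹ * ρ⁻¹ = x * (ρ * x⁻¹ * ρ⁻¹) by group]
        exact Q.mul_mem hxQ (hn.conj_mem _ (Q.inv_mem hxQ) ρ),
        R.mul_mem (S.R_norm x hxa ρ hρ) (R.inv_mem hρ)⟩
    haveI := Fact.mk S.R_prime
    rcases (Q.subgroupOf R).eq_bot_or_eq_top_of_prime_card with h | h
    · exfalso
      have h1 : (⟨_, hc.2⟩ : R) ∈ Q.subgroupOf R := mem_subgroupOf.mpr hc.1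
      rw [h, mem_bot] at h1
      exact hne (mul_inv_eq_iff_eq_mul.mp (mul_inv_eq_one.mp (congrArg Subtype.val h1)))
    · exact subgroupOf_eq_top.mp h
  push Not at hex
  exact (S.false_of_meet_le hb hno hn hQ hex).elim

/-- `U` meets its conjugates from outside the stabiliser trivially. -/
theorem ti (S : Setting K a U R) {x u : K} (hx : x • a ≠ a) (hu : u ∈ U) (h : x⁻¹ * u * x ∈ U) :
    u = 1 := by
  refine S.U_free u hu _ hx ?_
  have h1 : (x⁻¹ * u * x) • a = a := S.U_le h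
  rwa [mul_smul, mul_smul, inv_smul_eq_iff] at h1

end Setting

end Cfsg.Agent.H53.Exotic
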